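import Cfsg.Agent.Lib.Perm.PrimeSquarePlusOne.Parity

/-!
# The case of a normal regular subgroup

* `Reg.fixed_eq`, `Reg.smul_smul_iff`: fixed points of `G_ab` inside `P`-coordinates.
* `Reg.false_of_normal`: the regular subgroup of `G_a` cannot be normal.
-/

set_option autoImplicit false
set_option linter.all false

namespace CfsgLib.Perm.PrimeSquarePlusOne

open MulAction
open scoped Pointwise

variable {Ω : Type*} [Finite Ω] {p : ℕ} [Fact p.Prime] {G : Type*} [Group G] [Finite G]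
  [MulAction G Ω] [FaithfulSMul G Ω] {hC : Cfg G Ω p} {a b : Ω} {P : Subgroup G}

theorem Reg.smul_smul_iff (hR : Reg hC a P) (hN : ∀ g : G, g • a = a → ∀ x ∈ P, g * x * g⁻¹ ∈ P)
    (hb : b ≠ a) {τ : G} (ha' : τ • a = a) (hb' : τ • b = b) {x : G} (hx : x ∈ P) :
    τ • x • b = x • b ↔ x * τ = τ * x := by
  constructor
  · intro h
    have h1 : (x⁻¹ * (τ * x * τ⁻¹)) • b = b := by
      rw [mul_smul, mul_smul, mul_smul, inv_smul_eq_iff.2 hb'.symm, h, inv_smul_smul]
    have h2 := hR.eq_one _ (mul_mem (inv_mem hx) (hN τ ha' x hx)) b hb h1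
    rw [inv_mul_eq_one, eq_mul_inv_iff_mul_eq] at h2
    exact h2
  · intro h
    rw [← mul_smul, ← h, mul_smul, hb']

/-- The fixed points of an element of `G_ab`. -/
theorem Reg.fixed_eq (hR : Reg hC a P) (hN : ∀ g : G, g • a = a → ∀ x ∈ P, g * x * g⁻¹ ∈ P)
    (hb : b ≠ a) {τ : G} (ha' : τ • a = a) (hb' : τ • b = b) :
    {c : Ω | τ • c = c} =
      insert a ((fun x : G => x • b) '' ↑(P ⊓ Subgroup.centralizer {τ})) := by
  ext c
  constructor
  · intro hc
    by_cases hca : c = a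
    · exact Or.inl hca
    obtain ⟨x, hx, rfl⟩ := hR.trans b c hb hca
    exact Or.inr ⟨x, ⟨hx, Subgroup.mem_centralizer_singleton_iff.2
      ((hR.smul_smul_iff hN hb ha' hb' hx).1 hc)⟩, rfl⟩
  · rintro (rfl | ⟨x, hx, rfl⟩)
    · exact ha'
    · exact (hR.smul_smul_iff hN hb ha' hb' hx.1).2 (Subgroup.mem_centralizer_singleton_iff.1 hx.2)

theorem Reg.ncard_fixed (hR : Reg hC a P) (hN : ∀ g : G, g • a = a → ∀ x ∈ P, g * x * g⁻¹ ∈ P)
    (hb : b ≠ a) {τ : G} (ha' : τ • a = a) (hb' : τ • b = b) :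
    {c : Ω | τ • c = c}.ncard = Nat.card ↥(P ⊓ Subgroup.centralizer {τ}) + 1 := by
  rw [hR.fixed_eq hN hb ha' hb', Set.ncard_insert_of_notMem, Set.InjOn.ncard_image]
  · rfl
  · intro x hx y hy hxy
    have h1 : (y⁻¹ * x) • b = b := by rw [mul_smul, show x • b = y • b from hxy, inv_smul_smul]
    exact (inv_mul_eq_one.1 (hR.eq_one _ (mul_mem (inv_mem hy.1) hx.1) b hb h1)).symm
  · rintro ⟨x, hx, hxa⟩
    exact hb (MulAction.injective x (hxa.trans (hR.le hx.1).symm))

theorem Reg.card_centralizer (hR : Reg hC a P) (hN : ∀ g : G, g • a = a → ∀ x ∈ P, g * x * g⁻¹ ∈ P)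
    (hb : b ≠ a) {τ : G} (ha' : τ • a = a) (hb' : τ • b = b) (h1 : τ ≠ 1) :
    Nat.card ↥(P ⊓ Subgroup.centralizer {τ}) = 1 ∨
      Nat.card ↥(P ⊓ Subgroup.centralizer {τ}) = p := by
  have hp : p.Prime := Fact.out
  have hd : Nat.card ↥(P ⊓ Subgroup.centralizer {τ}) ∣ p ^ 2 :=
    hR.card ▸ Subgroup.card_dvd_of_le inf_le_left
  obtain ⟨i, hi, hci⟩ := (Nat.dvd_prime_pow hp).1 hd
  interval_cases i
  · exact Or.inl (by simpa using hci)
  · exact Or.inr (by simpa using hci)
  · exfalso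
    have hle := (Subgroup.eq_of_le_of_card_ge (inf_le_left : P ⊓ Subgroup.centralizer {τ} ≤ P)
      (by rw [hci, hR.card])).ge
    refine h1 (eq_of_smul_eq_smul fun c : Ω => ?_)
    rw [one_smul]
    by_cases hca : c = a
    · rw [hca]; exact ha'
    obtain ⟨x, hx, rfl⟩ := hR.trans b c hb hca
    exact (hR.smul_smul_iff hN hb ha' hb' hx).2
      (Subgroup.mem_centralizer_singleton_iff.1 (hle hx).2)

theorem Reg.faithful_on_block_of_normal (hR : Reg hC a P)
    (hN : ∀ g : G, g • a = a → ∀ x ∈ P, g * x * g⁻¹ ∈ P) (hp2 : p ≠ 2) (hb : b ≠ a) {τ : G}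
    (ha' : τ • a = a) (hb' : τ • b = b) (hfix : ∀ c ∈ hC.block a b, τ • c = c) : τ = 1 := by
  classical
  by_contra h1
  have hp : p.Prime := Fact.out
  have hQle : P ⊓ kernel hC a ≤ P ⊓ Subgroup.centralizer {τ} := fun x hx =>
    ⟨hx.1, Subgroup.mem_centralizer_singleton_iff.2
      ((hR.smul_smul_iff hN hb ha' hb' hx.1).1 (hfix _ (kernel_smul_mem hC hx.2 hb)))⟩
  have hcard : Nat.card ↥(P ⊓ Subgroup.centralizer {τ}) = p := by
    rcases hR.card_centralizer hN hb ha' hb' h1 with h | h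
    · have := Subgroup.card_dvd_of_le hQle
      rw [h, hR.card_inf_kernel hb, Nat.dvd_one] at this
      exact absurd this hp.ne_one
    · exact h
  have heq : P ⊓ kernel hC a = P ⊓ Subgroup.centralizer {τ} :=
    Subgroup.eq_of_le_of_card_ge hQle (by rw [hcard, hR.card_inf_kernel hb])
  have hFix : {c : Ω | τ • c = c} = hC.line a b := by
    rw [hR.fixed_eq hN hb ha' hb', ← heq, ← hC.insert_block hb, ← hR.orbit_inf_kernel hb]
    congr 1
    ext c
    exact ⟨fun ⟨x, hx, h⟩ => ⟨⟨x, hx⟩, h⟩, fun ⟨x, h⟩ => ⟨x, x.2, h⟩⟩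
  obtain ⟨t, hta, htb⟩ := hC.two a b b a (Ne.symm hb) hb
  have hFix' : {c : Ω | (t * τ * t⁻¹) • c = c} = hC.line b a := by
    have hsl := hC.smul_line t a b (Ne.symm hb)
    rw [hta, htb] at hsl
    rw [← hsl, ← hFix]
    ext c
    rw [Set.mem_smul_set_iff_inv_smul_mem, Set.mem_setOf_eq, Set.mem_setOf_eq, mul_smul, mul_smul]
    exact ⟨fun h => (eq_inv_smul_iff.2 h), fun h => by rw [h, smul_inv_smul]⟩
  have ha'' : (t * τ * t⁻¹) • a = a := by
    have := hC.mem_right b a hb
    rwa [← hFix'] at this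
  have hb'' : (t * τ * t⁻¹) • b = b := by
    have := hC.mem_left b a hb
    rwa [← hFix'] at this
  obtain ⟨c, hc, hca, hcb⟩ : ∃ c ∈ hC.line b a, c ≠ a ∧ c ≠ b := by
    by_contra hcon
    push Not at hcon
    have hsub : hC.line b a ⊆ {a, b} := fun c hc => by
      by_cases hca : c = a
      · exact Or.inl hca
      · exact Or.inr (hcon c hc hca)
    have := (Set.ncard_le_ncard hsub (Set.toFinite _)).trans (Set.ncard_insert_le _ _)
    rw [hC.ncard_line b a hb, Set.ncard_singleton] at this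
    have := hp.two_le
    omega
  obtain ⟨r, hr, hrc⟩ := hR.trans b c hb hca
  have hcomm : r * (t * τ * t⁻¹) = (t * τ * t⁻¹) * r :=
    (hR.smul_smul_iff hN hb ha'' hb'' hr).1 (by
      rw [hrc]
      have := hc
      rwa [← hFix'] at this)
  refine hC.not_shared hp.two_le (Ne.symm hb) hc hca hcb ?_
  have hra : r • a = a := hR.le hr
  rw [← hra, ← hrc, ← hC.smul_line r b a hb, hra, ← hFix']
  ext d
  rw [Set.mem_smul_set_iff_inv_smul_mem, Set.mem_setOf_eq, Set.mem_setOf_eq]
  have hcomm' : (t * τ * t⁻¹) * r⁻¹ = r⁻¹ * (t * τ * t⁻¹) :=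
    ((Commute.inv_left (show Commute r (t * τ * t⁻¹) from hcomm)).eq).symm
  rw [← mul_smul, hcomm', mul_smul]
  exact ⟨fun h => MulAction.injective r⁻¹ h, fun h => by rw [h]⟩

theorem Reg.false_of_normal (hR : Reg hC a P)
    (hN : ∀ g : G, g • a = a → ∀ x ∈ P, g * x * g⁻¹ ∈ P) (hp2 : p ≠ 2) (hb : b ≠ a) : False := by
  classical
  have hp : p.Prime := Fact.out
  haveI : Fintype Ω := Fintype.ofFinite Ω
  haveI : Fintype G := Fintype.ofFinite G
  -- the two point stabiliser embeds in the automorphisms of a group of order `p`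
  set T : Subgroup G := stabilizer G a ⊓ stabilizer G b with hT
  set Q : Subgroup G := P ⊓ kernel hC a with hQ
  have hQc : Nat.card Q = p := hR.card_inf_kernel hb
  haveI : Fact (Nat.card Q).Prime := ⟨hQc.symm ▸ hp⟩
  haveI : IsCyclic Q := isCyclic_of_prime_card hQc
  have hQn : ∀ g : G, g • a = a → ∀ x ∈ Q, g * x * g⁻¹ ∈ Q := fun g hg x hx =>
    ⟨hN g hg x hx.1, conj_mem_kernel hC hg hx.2⟩
  have hTN : T ≤ Subgroup.normalizer (Q : Set G) := by
    intro g hg
    refine Subgroup.mem_normalizer_iff.2 fun w => ⟨hQn g hg.1 w, fun h => ?_⟩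
    have := hQn g⁻¹ (inv_mem hg.1 : g⁻¹ ∈ stabilizer G a) _ h
    simpa [mul_assoc] using this
  let ψ : T →* (ZMod (Nat.card Q))ˣ :=
    (IsCyclic.mulAutMulEquiv Q).toMonoidHom.comp
      (Q.normalizerMonoidHom.comp (Subgroup.inclusion hTN))
  have hψ : Function.Injective ψ := by
    refine (injective_iff_map_eq_one ψ).2 fun g hg => ?_
    have h1 : Subgroup.inclusion hTN g ∈ Q.normalizerMonoidHom.ker :=
      MonoidHom.mem_ker.2 ((IsCyclic.mulAutMulEquiv Q).injective (hg.trans (map_one _).symm))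
    rw [Subgroup.normalizerMonoidHom_ker, Subgroup.mem_subgroupOf] at h1
    refine Subtype.ext (hR.faithful_on_block_of_normal hN hp2 hb g.2.1 g.2.2 fun c hc => ?_)
    rw [← hR.orbit_inf_kernel hb] at hc
    obtain ⟨x, rfl⟩ := hc
    exact (hR.smul_smul_iff hN hb g.2.1 g.2.2 x.2.1).2
      (Subgroup.mem_centralizer_iff.1 h1 x x.2)
  have hTcard : Nat.card T ≤ p - 1 := by
    have h := Nat.card_le_card_of_injective ψ hψ
    rwa [Nat.card_eq_fintype_card (α := (ZMod (Nat.card Q))ˣ), ZMod.card_units_eq_totient,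
      hQc, Nat.totient_prime hp] at h
  obtain ⟨z, hz, hza, hzb⟩ := hC.exists_involution hp2 (Ne.symm hb)
  have huniq : ∀ g : G, g • a = a → g • b = b → orderOf g = 2 → g = z := by
    intro g hga hgb hg
    have hsq : ∀ (w : G) (hw : w ∈ T), orderOf w = 2 → ψ ⟨w, hw⟩ = -1 := by
      intro w hw hw2
      have h1 : (ψ ⟨w, hw⟩) * (ψ ⟨w, hw⟩) = 1 := by
        rw [← map_mul, ← map_one ψ]
        congr 1
        exact Subtype.ext (by
          show w * w = 1
          rw [← sq, ← hw2, pow_orderOf_eq_one])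
      have h2 : (↑(ψ ⟨w, hw⟩) : ZMod (Nat.card Q)) * ↑(ψ ⟨w, hw⟩) = 1 := congrArg Units.val h1
      rcases mul_self_eq_one_iff.1 h2 with h | h
      · exfalso
        have : (⟨w, hw⟩ : T) = 1 := hψ (by rw [map_one]; exact Units.ext h)
        rw [show w = 1 from congrArg Subtype.val this, orderOf_one] at hw2
        omega
      · exact Units.ext (by rw [h, Units.val_neg, Units.val_one])
    have := hψ ((hsq g ⟨hga, hgb⟩ hg).trans (hsq z ⟨hza, hzb⟩ hz).symm)
    exact congrArg Subtype.val this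
  -- the involutions with two fixed points
  let fixs : G → Finset Ω := fun g => Finset.univ.filter fun c => g • c = c
  set f := (fixs z).card with hf
  have hfval : f = 2 ∨ f = p + 1 := by
    have h1 : z ≠ 1 := fun h => by rw [h, orderOf_one] at hz; omega
    have h2 : f = Nat.card ↥(P ⊓ Subgroup.centralizer {z}) + 1 := by
      rw [← hR.ncard_fixed hN hb hza hzb, hf, Set.ncard_eq_toFinset_card']
      congr 1
      ext c
      simp [fixs]
    rcases hR.card_centralizer hN hb hza hzb h1 with h | h <;> rw [h] at h2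
    · exact Or.inl h2
    · exact Or.inr h2
  let Z : Finset G := Finset.univ.filter fun g =>
    orderOf g = 2 ∧ ∃ x y : Ω, x ≠ y ∧ g • x = x ∧ g • y = y
  have hconj : ∀ x y : Ω, x ≠ y → ∃ h : G, (h * z * h⁻¹) • x = x ∧ (h * z * h⁻¹) • y = y ∧
      (∀ g : G, orderOf g = 2 → g • x = x → g • y = y → g = h * z * h⁻¹) ∧
      orderOf (h * z * h⁻¹) = 2 ∧ (fixs (h * z * h⁻¹)).card = f := by
    intro x y hxy
    obtain ⟨h, rfl, rfl⟩ := hC.two a b x y (Ne.symm hb) hxy
    refine ⟨h, ?_, ?_, ?_, ?_, ?_⟩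
    · rw [mul_smul, mul_smul, inv_smul_smul, hza]
    · rw [mul_smul, mul_smul, inv_smul_smul, hzb]
    · intro g hg hgx hgy
      have h1 : h⁻¹ * g * h = z := by
        refine huniq _ ?_ ?_ ?_
        · rw [mul_smul, mul_smul, hgx, inv_smul_smul]
        · rw [mul_smul, mul_smul, hgy, inv_smul_smul]
        · rw [← hg]
          have := (MulAut.conj h⁻¹).orderOf_eq g
          rwa [MulAut.conj_apply, inv_inv] at this
      rw [← h1]; group
    · rw [← hz]; exact (MulAut.conj h).orderOf_eq z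
    · rw [hf]
      refine (Finset.card_bij (fun c _ => h • c) ?_ (fun _ _ _ _ e => MulAction.injective h e) ?_).symm
      · intro c hc
        simp only [fixs, Finset.mem_filter, Finset.mem_univ, true_and] at hc ⊢
        rw [mul_smul, mul_smul, inv_smul_smul, hc]
      · intro c hc
        refine ⟨h⁻¹ • c, ?_, smul_inv_smul _ _⟩
        simp only [fixs, Finset.mem_filter, Finset.mem_univ, true_and, mul_smul] at hc ⊢
        exact eq_inv_smul_iff.2 hc
  have hZf : ∀ g ∈ Z, (fixs g).card = f := by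
    intro g hg
    obtain ⟨ho, x, y, hxy, hgx, hgy⟩ := (Finset.mem_filter.1 hg).2
    obtain ⟨h, -, -, hu, -, hcard⟩ := hconj x y hxy
    rw [hu g ho hgx hgy, hcard]
  set N := (Finset.univ : Finset Ω).offDiag.card with hNdef
  have hn : Fintype.card Ω = p ^ 2 + 1 := by rw [← Nat.card_eq_fintype_card, hC.card_points]
  have hN' : N = (p ^ 2 + 1) * p ^ 2 := by
    rw [hNdef, Finset.offDiag_card, Finset.card_univ, hn, Nat.sub_eq_iff_eq_add (Nat.le_mul_self _)]
    ring
  have h1 : Z.card * (f * f - f) = N := by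
    have := Finset.sum_card_bipartiteAbove_eq_sum_card_bipartiteBelow (s := Z)
      (t := (Finset.univ : Finset Ω).offDiag)
      (fun (g : G) (e : Ω × Ω) => g • e.1 = e.1 ∧ g • e.2 = e.2)
    rw [Finset.sum_const_nat (m := f * f - f) ?hg, Finset.sum_const_nat (m := 1) ?he, mul_one] at this
    case hg =>
      intro g hg
      rw [← hZf g hg, ← Finset.offDiag_card]
      congr 1
      ext ⟨x, y⟩
      simp only [Finset.bipartiteAbove, Finset.mem_filter, Finset.mem_offDiag, Finset.mem_univ,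
        true_and, fixs]
      tauto
    case he =>
      intro e he
      obtain ⟨-, -, hxy⟩ := Finset.mem_offDiag.1 he
      obtain ⟨h, hx, hy, hu, ho, -⟩ := hconj e.1 e.2 hxy
      rw [Finset.card_eq_one]
      refine ⟨h * z * h⁻¹, Finset.eq_singleton_iff_unique_mem.2 ⟨?_, fun g hg => ?_⟩⟩
      · simp only [Finset.bipartiteBelow, Finset.mem_filter, Z, Finset.mem_univ, true_and]
        exact ⟨⟨ho, e.1, e.2, hxy, hx, hy⟩, hx, hy⟩
      · simp only [Finset.bipartiteBelow, Finset.mem_filter, Z, Finset.mem_univ, true_and] at hg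
        exact hu g hg.1.1 hg.2.1 hg.2.2
    exact this
  set m := (Z.filter fun g => g • a = b).card with hm
  have h2 : Z.card * (p ^ 2 + 1 - f) = N * m := by
    have := Finset.sum_card_bipartiteAbove_eq_sum_card_bipartiteBelow (s := Z)
      (t := (Finset.univ : Finset Ω).offDiag) (fun (g : G) (e : Ω × Ω) => g • e.1 = e.2)
    rw [Finset.sum_const_nat (m := p ^ 2 + 1 - f) ?hg, Finset.sum_const_nat (m := m) ?he] at this
    case hg =>
      intro g hg
      rw [← hZf g hg, ← hn, ← Finset.card_compl]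
      refine Finset.card_bij (fun e _ => e.1) ?_ ?_ ?_
      · rintro ⟨x, y⟩ he
        simp only [Finset.bipartiteAbove, Finset.mem_filter, Finset.mem_offDiag] at he
        simp only [fixs, Finset.mem_compl, Finset.mem_filter, Finset.mem_univ, true_and]
        exact fun h => he.1.2.2 (h.symm.trans he.2)
      · rintro ⟨x, y⟩ he ⟨x', y'⟩ he' h
        simp only [Finset.bipartiteAbove, Finset.mem_filter] at he he'
        obtain rfl : x = x' := h
        exact Prod.ext rfl (he.2.symm.trans he'.2)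
      · intro x hx
        simp only [fixs, Finset.mem_compl, Finset.mem_filter, Finset.mem_univ, true_and] at hx
        exact ⟨(x, g • x), by simp [Finset.bipartiteAbove, Ne.symm hx], rfl⟩
    case he =>
      intro e he
      obtain ⟨-, -, hxy⟩ := Finset.mem_offDiag.1 he
      obtain ⟨h, hx, hy⟩ := hC.two a b e.1 e.2 (Ne.symm hb) hxy
      rw [hm]
      refine (Finset.card_bij (fun g _ => h * g * h⁻¹) ?_ (fun _ _ _ _ e => by simpa using e) ?_).symm
      · intro g hg
        simp only [Finset.bipartiteBelow, Finset.mem_filter, Z, Finset.mem_univ, true_and] at hg ⊢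
        obtain ⟨⟨ho, x, y, hxy', hgx, hgy⟩, hgab⟩ := hg
        refine ⟨⟨by rw [← ho]; exact (MulAut.conj h).orderOf_eq g, h • x, h • y,
          (MulAction.injective h).ne hxy', ?_, ?_⟩, ?_⟩
        · rw [mul_smul, mul_smul, inv_smul_smul, hgx]
        · rw [mul_smul, mul_smul, inv_smul_smul, hgy]
        · rw [← hx, mul_smul, mul_smul, inv_smul_smul, hgab, hy]
      · intro g hg
        simp only [Finset.bipartiteBelow, Finset.mem_filter, Z, Finset.mem_univ, true_and] at hg ⊢
        obtain ⟨⟨ho, x, y, hxy', hgx, hgy⟩, hgab⟩ := hg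
        refine ⟨h⁻¹ * g * h, ⟨⟨?_, h⁻¹ • x, h⁻¹ • y, (MulAction.injective _).ne hxy', ?_, ?_⟩, ?_⟩,
          by group⟩
        · rw [← ho]
          have := (MulAut.conj h⁻¹).orderOf_eq g
          rwa [MulAut.conj_apply, inv_inv] at this
        · rw [mul_smul, mul_smul, smul_inv_smul, hgx]
        · rw [mul_smul, mul_smul, smul_inv_smul, hgy]
        · rw [mul_smul, mul_smul, hx, hgab, ← hy, inv_smul_smul]
    exact this
  have hm' : m ≤ p - 1 := by
    refine le_trans ?_ hTcard
    rcases (Z.filter fun g => g • a = b).eq_empty_or_nonempty with h | ⟨g₁, hg₁⟩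
    · rw [hm, h, Finset.card_empty]; exact Nat.zero_le _
    have hsw : ∀ g ∈ Z.filter (fun g => g • a = b), g • b = a ∧ g • a = b := by
      intro g hg
      simp only [Finset.mem_filter, Z, Finset.mem_univ, true_and] at hg
      refine ⟨?_, hg.2⟩
      rw [← hg.2, ← mul_smul, ← sq, ← hg.1.1, pow_orderOf_eq_one, one_smul]
    rw [hm, ← Fintype.card_coe, ← Nat.card_eq_fintype_card]
    refine Nat.card_le_card_of_injective (fun g => (⟨g₁⁻¹ * (g : G), ?_, ?_⟩ : T)) ?_
    · show (g₁⁻¹ * (g : G)) • a = a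
      rw [mul_smul, (hsw g g.2).2, inv_smul_eq_iff, (hsw g₁ hg₁).2]
    · show (g₁⁻¹ * (g : G)) • b = b
      rw [mul_smul, (hsw g g.2).1, inv_smul_eq_iff, (hsw g₁ hg₁).1]
    · intro g g' h
      exact Subtype.ext (mul_left_cancel (congrArg Subtype.val h))
  have hZpos : 0 < Z.card := Finset.card_pos.2 ⟨z, by
    simp only [Z, Finset.mem_filter, Finset.mem_univ, true_and]
    exact ⟨hz, a, b, Ne.symm hb, hza, hzb⟩⟩
  have key : p ^ 2 + 1 - f = (f * f - f) * m :=
    Nat.eq_of_mul_eq_mul_left hZpos (by rw [h2, ← mul_assoc, h1])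
  have hp3 : 3 ≤ p := by
    have := hp.two_le
    omega
  rcases hfval with hfv | hfv
  · rw [hfv] at key
    have h3 : p ^ 2 + 1 - 2 + 2 = p ^ 2 + 1 := Nat.sub_add_cancel (by nlinarith)
    rw [key] at h3
    norm_num at h3
    have : 3 * p ≤ p ^ 2 := by nlinarith
    omega
  · rw [hfv] at key
    have h3 : (p + 1) * (p + 1) - (p + 1) = (p + 1) * p := by
      rw [Nat.sub_eq_iff_eq_add (Nat.le_mul_self _)]; ring
    have h4 : p ^ 2 + 1 - (p + 1) + p = p ^ 2 := by
      have : p ≤ p ^ 2 := Nat.le_self_pow two_ne_zero p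
      omega
    rw [key, h3] at h4
    rcases Nat.eq_zero_or_pos m with hm0 | hm0
    · rw [hm0, mul_zero, zero_add] at h4
      nlinarith
    · have : (p + 1) * p * 1 ≤ (p + 1) * p * m := Nat.mul_le_mul_left _ hm0
      nlinarith

end CfsgLib.Perm.PrimeSquarePlusOne
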