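import Mathlib

/-!
# Lines of a 2-transitive group of degree `p² + 1` with imprimitive point stabiliser

* `no_design`: there is no linear space on `p² + 1` points with all lines of size `p + 1`.
* `Cfg`: the line through `(x, y)` is `x` together with the block of `y` for the stabiliser of `x`.
* `Cfg.exists_of_not_primitive`: an imprimitive point stabiliser gives such lines.
* `Cfg.not_symm`, `Cfg.not_shared`: no two ordered pairs share a line in these two ways.
-/

set_option autoImplicit false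
set_option linter.all false

namespace CfsgLib.Perm.PrimeSquarePlusOne

open MulAction
open scoped Pointwise

variable {Ω : Type*} {p : ℕ}

/-- No linear space on `p² + 1` points has all lines of size `p + 1`. -/
theorem no_design [Finite Ω] (hp : 2 ≤ p) (hΩ : Nat.card Ω = p ^ 2 + 1) (ell : Ω → Ω → Set Ω)
    (hcard : ∀ x y, x ≠ y → (ell x y).ncard = p + 1)
    (hmem : ∀ x y, x ≠ y → x ∈ ell x y ∧ y ∈ ell x y)
    (hclosed : ∀ x y, x ≠ y → ∀ d ∈ ell x y, ∀ e ∈ ell x y, d ≠ e → ell d e = ell x y) : False := by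
  classical
  have := Fintype.ofFinite Ω
  let pairs : Finset (Ω × Ω) := (Finset.univ : Finset Ω).offDiag
  have hN : pairs.card = (p ^ 2 + 1) * (p ^ 2 + 1) - (p ^ 2 + 1) := by
    rw [Finset.offDiag_card, Finset.card_univ, ← Nat.card_eq_fintype_card, hΩ]
  have hsum := Finset.card_eq_sum_card_image (fun e : Ω × Ω => ell e.1 e.2) pairs
  have hfib : ∀ L ∈ pairs.image (fun e : Ω × Ω => ell e.1 e.2),
      {e ∈ pairs | ell e.1 e.2 = L}.card = (p + 1) * (p + 1) - (p + 1) := by
    intro L hL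
    obtain ⟨⟨x, y⟩, hxy, rfl⟩ := Finset.mem_image.1 hL
    have hne : x ≠ y := (Finset.mem_offDiag.1 hxy).2.2
    have : {e ∈ pairs | ell e.1 e.2 = ell x y} = (ell x y).toFinset.offDiag := by
      ext ⟨d, e⟩
      simp only [pairs, Finset.mem_filter, Finset.mem_offDiag, Finset.mem_univ, true_and,
        Set.mem_toFinset]
      constructor
      · rintro ⟨hde, h⟩
        exact ⟨h ▸ (hmem d e hde).1, h ▸ (hmem d e hde).2, hde⟩
      · rintro ⟨hd, he, hde⟩
        exact ⟨hde, hclosed x y hne d hd e he hde⟩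
    rw [this, Finset.offDiag_card, ← Set.ncard_eq_toFinset_card', hcard x y hne]
  rw [Finset.sum_congr rfl hfib, Finset.sum_const, smul_eq_mul, hN] at hsum
  have e1 : (p ^ 2 + 1) * (p ^ 2 + 1) - (p ^ 2 + 1) = (p ^ 2 + 1) * p ^ 2 := by
    rw [Nat.sub_eq_iff_eq_add (Nat.le_mul_self _)]; ring
  have e2 : (p + 1) * (p + 1) - (p + 1) = (p + 1) * p := by
    rw [Nat.sub_eq_iff_eq_add (Nat.le_mul_self _)]; ring
  rw [e1, e2] at hsum
  set k := (pairs.image fun e : Ω × Ω => ell e.1 e.2).card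
  have h : ((p : ℤ) ^ 2 + 1) * p = (p + 1) * k := by
    have h0 : ((p : ℤ) ^ 2 + 1) * p ^ 2 = k * ((p + 1) * p) := by exact_mod_cast hsum
    have hp0 : (p : ℤ) ≠ 0 := by exact_mod_cast (by omega : p ≠ 0)
    exact mul_right_cancel₀ hp0 (by linear_combination h0)
  have h2 : ((p : ℤ) + 1) ∣ 2 :=
    ⟨(p : ℤ) ^ 2 - p + 2 - k, by linear_combination -h⟩
  have := Int.le_of_dvd (by norm_num) h2
  omega

variable {G : Type*} [Group G] [MulAction G Ω]

/-- `line x y` is `x` together with the block of `y` for the stabiliser of `x`. -/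
structure Cfg (G : Type*) [Group G] (Ω : Type*) [MulAction G Ω] (p : ℕ) where
  line : Ω → Ω → Set Ω
  card_points : Nat.card Ω = p ^ 2 + 1
  two : ∀ a b c d : Ω, a ≠ b → c ≠ d → ∃ g : G, g • a = c ∧ g • b = d
  mem_left : ∀ x y, x ≠ y → x ∈ line x y
  mem_right : ∀ x y, x ≠ y → y ∈ line x y
  ncard_line : ∀ x y, x ≠ y → (line x y).ncard = p + 1
  smul_line : ∀ (g : G) x y, x ≠ y → g • line x y = line (g • x) (g • y)
  base : ∀ x y c, x ≠ y → c ∈ line x y → c ≠ x → line x c = line x y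

variable [Finite Ω]

theorem Cfg.not_symm (hC : Cfg G Ω p) (hp : 2 ≤ p) {a b : Ω} (hab : a ≠ b)
    (h : hC.line a b = hC.line b a) : False := by
  have hall : ∀ x y, x ≠ y → hC.line x y = hC.line y x := by
    intro x y hxy
    obtain ⟨g, rfl, rfl⟩ := hC.two a b x y hab hxy
    rw [← hC.smul_line g a b hab, ← hC.smul_line g b a (Ne.symm hab), h]
  refine no_design hp hC.card_points hC.line hC.ncard_line
    (fun x y hxy => ⟨hC.mem_left x y hxy, hC.mem_right x y hxy⟩) fun x y hxy d hd e he hde => ?_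
  by_cases hdx : d = x
  · subst hdx
    exact hC.base d y e hxy he (Ne.symm hde)
  · have h1 : hC.line d x = hC.line x y := by
      rw [hall d x hdx, hC.base x y d hxy hd hdx]
    rw [hC.base d x e hdx (h1 ▸ he) (Ne.symm hde), h1]

/-- The line centred at `b` through `a` is not also centred at a third point with `a`. -/
theorem Cfg.not_shared (hC : Cfg G Ω p) (hp : 2 ≤ p) {a b c : Ω} (hab : a ≠ b)
    (hc : c ∈ hC.line b a) (hca : c ≠ a) (hcb : c ≠ b) (h : hC.line c a = hC.line b a) : False := by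
  refine hC.not_symm hp (Ne.symm hcb) ?_
  have h1 : b ∈ hC.line c a := h ▸ hC.mem_left b a (Ne.symm hab)
  rw [hC.base c a b hca h1 (Ne.symm hcb), hC.base b a c (Ne.symm hab) hc hcb, h]

theorem Cfg.exists_of_not_primitive [Fact p.Prime] (h2 : IsMultiplyPretransitive G Ω 2)
    (hΩ : Nat.card Ω = p ^ 2 + 1) (a : Ω)
    (hnp : ¬ IsPreprimitive ↥(stabilizer G a) ↥(SubMulAction.ofStabilizer G a)) :
    Nonempty (Cfg G Ω p) := by
  classical
  have hp : p.Prime := Fact.out
  have h2' : ∀ a b c d : Ω, a ≠ b → c ≠ d → ∃ g : G, g • a = c ∧ g • b = d :=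
    fun a b c d h h' => (is_two_pretransitive_iff).1 h2 h h'
  set X := ↥(SubMulAction.ofStabilizer G a)
  haveI htr : IsPretransitive ↥(stabilizer G a) X := by
    constructor
    intro x y
    obtain ⟨g, hga, hgx⟩ := h2' a (x : Ω) a (y : Ω) (Ne.symm x.2) (Ne.symm y.2)
    exact ⟨⟨g, hga⟩, Subtype.ext hgx⟩
  have hXcard : Nat.card X = p ^ 2 := by
    have h := Nat.card_congr (Equiv.sumCompl (fun x : Ω => x = a))
    rw [Nat.card_sum, hΩ] at h
    have h1 : Nat.card {x : Ω // x = a} = 1 := by simp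
    rw [h1] at h
    have h3 : Nat.card X = Nat.card {x : Ω // ¬ x = a} := rfl
    omega
  obtain ⟨B, hB, hBnt⟩ : ∃ B : Set X, IsBlock ↥(stabilizer G a) B ∧ ¬ IsTrivialBlock B := by
    by_contra hcon
    push Not at hcon
    exact hnp ⟨fun {B} hB => hcon B hB⟩
  obtain ⟨hns, huniv⟩ := not_or.1 hBnt
  obtain ⟨b₁, hb₁⟩ : B.Nonempty := (Set.not_subsingleton_iff.1 hns).nonempty
  have hBcard : B.ncard = p := by
    have hdvd : B.ncard ∣ p ^ 2 := hXcard ▸ hB.ncard_dvd_card ⟨b₁, hb₁⟩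
    obtain ⟨i, hi, hBi⟩ := (Nat.dvd_prime_pow hp).1 hdvd
    interval_cases i
    · exact absurd (Set.ncard_le_one_iff_subsingleton.1 (by simp [hBi])) hns
    · simpa using hBi
    · exact absurd (Set.eq_of_subset_of_ncard_le (Set.subset_univ B)
        (by rw [Set.ncard_univ, hXcard, hBi])) huniv
  set B' : Set Ω := Subtype.val '' B
  have hab : a ≠ (b₁ : Ω) := Ne.symm b₁.2
  have hstab : ∀ g : G, g • a = a → g • (b₁ : Ω) ∈ B' → g • B' = B' := by
    intro g hga hgb
    obtain ⟨y, hy, hy'⟩ := hgb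
    have hgB : (⟨g, hga⟩ : stabilizer G a) • B = B := by
      refine hB.smul_eq_of_nonempty ⟨(⟨g, hga⟩ : stabilizer G a) • b₁,
        Set.smul_mem_smul_set hb₁, ?_⟩
      have : (⟨g, hga⟩ : stabilizer G a) • b₁ = y := Subtype.ext hy'.symm
      rw [this]; exact hy
    ext z
    constructor
    · rintro ⟨_, ⟨w, hw, rfl⟩, rfl⟩
      exact ⟨(⟨g, hga⟩ : stabilizer G a) • w, hgB ▸ Set.smul_mem_smul_set hw, rfl⟩
    · rintro ⟨w, hw, rfl⟩
      rw [← hgB] at hw
      obtain ⟨w', hw', rfl⟩ := hw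
      exact ⟨(w' : Ω), ⟨w', hw', rfl⟩, rfl⟩
  let line : Ω → Ω → Set Ω := fun x y =>
    {c | c = x ∨ ∃ g : G, g • a = x ∧ g • (b₁ : Ω) = y ∧ c ∈ g • B'}
  have hline : ∀ (g : G) x y, g • a = x → g • (b₁ : Ω) = y → line x y = insert x (g • B') := by
    intro g x y hx hy
    ext c
    constructor
    · rintro (rfl | ⟨g', hx', hy', hc⟩)
      · exact Set.mem_insert _ _
      · refine Set.mem_insert_of_mem _ ?_
        have h1 : (g⁻¹ * g') • B' = B' := by
          refine hstab _ ?_ ?_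
          · rw [mul_smul, hx', ← hx, inv_smul_smul]
          · rw [mul_smul, hy', ← hy, inv_smul_smul]; exact ⟨b₁, hb₁, rfl⟩
        rw [mul_smul, inv_smul_eq_iff] at h1
        rwa [← h1]
    · rintro (rfl | hc)
      · exact Or.inl rfl
      · exact Or.inr ⟨g, hx, hy, hc⟩
  have haB : ∀ g : G, g • a ∉ g • B' := by
    rintro g ⟨_, ⟨w, _, rfl⟩, hw⟩
    exact w.2 (MulAction.injective g hw)
  have hb₁B : (b₁ : Ω) ∈ B' := ⟨b₁, hb₁, rfl⟩
  refine ⟨⟨line, hΩ, h2', fun x y _ => Or.inl rfl, ?_, ?_, ?_, ?_⟩⟩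
  · intro x y hxy
    obtain ⟨g, hx, hy⟩ := h2' a b₁ x y hab hxy
    rw [hline g x y hx hy, ← hy]
    exact Set.mem_insert_of_mem _ (Set.smul_mem_smul_set hb₁B)
  · intro x y hxy
    obtain ⟨g, hx, hy⟩ := h2' a b₁ x y hab hxy
    rw [hline g x y hx hy, ← hx, Set.ncard_insert_of_notMem (haB g), Set.ncard_smul_set,
      Set.ncard_image_of_injective _ Subtype.val_injective, hBcard]
  · intro g x y hxy
    obtain ⟨h, hx, hy⟩ := h2' a b₁ x y hab hxy
    rw [hline h x y hx hy, hline (g * h) (g • x) (g • y) (by rw [mul_smul, hx])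
      (by rw [mul_smul, hy]), Set.smul_set_insert, mul_smul]
  · intro x y c hxy hc hcx
    obtain ⟨g, hx, hy⟩ := h2' a b₁ x y hab hxy
    rw [hline g x y hx hy] at hc ⊢
    obtain ⟨d, ⟨w, hw, rfl⟩, rfl⟩ := hc.resolve_left hcx
    obtain ⟨k, hk⟩ := exists_smul_eq (↥(stabilizer G a)) b₁ w
    have hk' : (k : G) • (b₁ : Ω) = w := congrArg Subtype.val hk
    rw [hline (g * (k : G)) x _ (by rw [mul_smul, k.2, hx]) (by rw [mul_smul, hk']), mul_smul,
      hstab (k : G) k.2 (hk' ▸ ⟨w, hw, rfl⟩)]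

end CfsgLib.Perm.PrimeSquarePlusOne
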