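import Cfsg.Agent.Lib.Perm.PrimeNormalizer

/-!
# Burnside's dichotomy for transitive actions of prime degree

* `two_or_normal`: doubly transitive, or the `p`-elements lie in a normal subgroup of order
  dividing `p` times the order of the kernel.
-/

set_option autoImplicit false
set_option linter.all false

namespace CfsgLib.Perm.PrimeSquarePlusOne

open MulAction CfsgLib.Perm.PrimeNormalizer

theorem two_or_normal {p : ℕ} [Fact p.Prime] {C α : Type*} [Group C] [Finite C] [MulAction C α]
    [Finite α] (hα : Nat.card α = p) [IsPretransitive C α] :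
    IsMultiplyPretransitive C α 2 ∨ ∃ N : Subgroup C, N.Normal ∧
      Nat.card N ∣ p * Nat.card (MulAction.toPermHom C α).ker ∧
      ∀ x : C, (∃ k : ℕ, orderOf x = p ^ k) → x ∈ N := by
  classical
  have := Fintype.ofFinite α
  rw [Nat.card_eq_fintype_card] at hα
  obtain ⟨e, σ, hσ⟩ := PrimeDegree.exists_coords (G := C) hα
  rcases affine_or_two_pretransitive e hσ with haff | h2
  swap
  · exact Or.inl h2
  let q := coordHom (G := C) e
  let A : C →* ZMod p :=
    { toFun := fun g => q g 1 - q g 0
      map_one' := by simp [q]
      map_mul' := fun g h => by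
        simp only [q, map_mul, Equiv.Perm.mul_apply]
        rw [haff g (coordHom e h 1), haff g (coordHom e h 0)]
        ring }
  refine Or.inr ⟨A.toHomUnits.ker, inferInstance, ?_, ?_⟩
  · have hA1 : ∀ n : A.toHomUnits.ker, ∀ i, q n i = i + q n 0 := fun n i => by
      have h : A (n : C) = 1 := congrArg Units.val n.2
      show coordHom e (n : C) i = _
      rw [haff, show coordHom e (n : C) 1 - coordHom e (n : C) 0 = 1 from h, one_mul]
    let B : A.toHomUnits.ker →* Multiplicative (ZMod p) :=
      { toFun := fun n => Multiplicative.ofAdd (q n 0)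
        map_one' := by simp [q]
        map_mul' := fun n m => by
          rw [← ofAdd_add]
          congr 1
          show q ((n : C) * m) 0 = _
          rw [map_mul, Equiv.Perm.mul_apply, hA1 n (q m 0), add_comm] }
    rw [← Subgroup.card_mul_index B.ker, mul_comm p]
    refine mul_dvd_mul ?_ ?_
    · rw [← Subgroup.card_map_of_injective A.toHomUnits.ker.subtype_injective (K := B.ker)]
      refine Subgroup.card_dvd_of_le ?_
      rintro _ ⟨n, hn, rfl⟩
      have h0 : q n 0 = 0 := congrArg Multiplicative.toAdd (show B n = 1 from hn)
      refine MonoidHom.mem_ker.2 (Equiv.ext fun x => ?_)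
      show (n : C) • x = x
      rw [← e.apply_symm_apply x, ← coordHom_apply]
      congr 1
      show q n _ = _
      rw [hA1, h0, add_zero]
    · rw [Subgroup.index_ker]
      refine (Subgroup.card_subgroup_dvd_card _).trans (dvd_of_eq ?_)
      rw [Nat.card_congr Multiplicative.toAdd, Nat.card_zmod]
  · rintro x ⟨k, hk⟩
    refine MonoidHom.mem_ker.2 (Units.ext ?_)
    show A x = 1
    have h : A x ^ p ^ k = 1 := by rw [← map_pow, ← hk, pow_orderOf_eq_one, map_one]
    rwa [ZMod.pow_card_pow] at h

end CfsgLib.Perm.PrimeSquarePlusOne
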