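import Cfsg.Agent.Lib.Perm.PrimeSquarePlusOne.Regular
import Cfsg.Agent.Lib.Perm.PrimeSquarePlusOne.Dichotomy

/-!
# The case of a kernel with normal Sylow subgroup

* `Reg.inf_kernel_normal`: then `P ⊓ kernel` is normal in the point stabiliser.
* `Reg.false_of_kernel_normal`: the regular subgroup is then normal in the point stabiliser.
-/

set_option autoImplicit false
set_option linter.all false

namespace CfsgLib.Perm.PrimeSquarePlusOne

open MulAction
open scoped Pointwise

variable {Ω : Type*} [Finite Ω] {p : ℕ} [Fact p.Prime] {G : Type*} [Group G] [Finite G]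
  [MulAction G Ω] [FaithfulSMul G Ω] {hC : Cfg G Ω p} {a b : Ω} {P : Subgroup G}

theorem Reg.inf_kernel_normal (hR : Reg hC a P) (hb : b ≠ a)
    (hQ : ∀ k ∈ kernel hC a, ∀ x ∈ P ⊓ kernel hC a, k * x * k⁻¹ ∈ P ⊓ kernel hC a)
    {g : G} (hg : g • a = a) {x : G} (hx : x ∈ P ⊓ kernel hC a) :
    g * x * g⁻¹ ∈ P ⊓ kernel hC a := by
  classical
  have hp : p.Prime := Fact.out
  set K := kernel hC a
  set Q := P ⊓ K with hQdef
  have horb : orbit K b = hC.block a b := by
    refine Set.Subset.antisymm ?_ ?_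
    · rintro _ ⟨k, rfl⟩; exact kernel_smul_mem hC k.2 hb
    · rw [← hR.orbit_inf_kernel hb]
      rintro _ ⟨k, rfl⟩
      exact ⟨⟨k, k.2.2⟩, rfl⟩
  have hcard := card_inf_stabilizer K b
  rw [horb, hC.ncard_block hb] at hcard
  have hQK : Q ≤ K := inf_le_right
  haveI : (Q.subgroupOf K).Normal := ⟨fun n hn k => hQ k k.2 n hn⟩
  have hidx : (Q.subgroupOf K).index = Nat.card ↥(K ⊓ stabilizer G b) := by
    have h := (Q.subgroupOf K).card_mul_index
    rw [Nat.card_congr (Subgroup.subgroupOfEquivOfLe hQK).toEquiv, hR.card_inf_kernel hb,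
      ← hcard] at h
    exact Nat.eq_of_mul_eq_mul_left hp.pos h
  have hnd : ¬ p ∣ (Q.subgroupOf K).index := fun h => hC.not_dvd_two_point (Ne.symm hb)
    (h.trans (hidx ▸ Subgroup.card_dvd_of_le (inf_le_inf_right _ (kernel_le hC a))))
  have hyK : g * x * g⁻¹ ∈ K := conj_mem_kernel hC hg hx.2
  set y : K := ⟨g * x * g⁻¹, hyK⟩
  have hyp : y ^ p = 1 := by
    refine Subtype.ext ?_
    show (g * x * g⁻¹) ^ p = 1
    have h1 : x ^ p = 1 := by
      rw [← hR.card_inf_kernel hb]
      exact orderOf_dvd_iff_pow_eq_one.1 (Subgroup.orderOf_dvd_natCard _ hx)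
    rw [conj_pow, h1, mul_one, mul_inv_cancel]
  have h3 : (QuotientGroup.mk y : K ⧸ Q.subgroupOf K) = 1 := by
    have h1 : (QuotientGroup.mk y : K ⧸ Q.subgroupOf K) ^ p = 1 := by
      rw [← QuotientGroup.mk_pow, hyp, QuotientGroup.mk_one]
    have h2 := pow_card_eq_one' (x := (QuotientGroup.mk y : K ⧸ Q.subgroupOf K))
    rw [← Subgroup.index_eq_card] at h2
    have := pow_gcd_eq_one.2 ⟨h1, h2⟩
    rwa [Nat.coprime_iff_gcd_eq_one.1 (hp.coprime_iff_not_dvd.2 hnd), pow_one] at this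
  exact (QuotientGroup.eq_one_iff (N := Q.subgroupOf K) y).1 h3

theorem Reg.false_of_kernel_normal (hR : Reg hC a P) (hb : b ≠ a)
    (hQ : ∀ k ∈ kernel hC a, ∀ x ∈ P ⊓ kernel hC a, k * x * k⁻¹ ∈ P ⊓ kernel hC a)
    (hP : ¬ ∀ g : G, g • a = a → ∀ x ∈ P, g * x * g⁻¹ ∈ P) : False := by
  classical
  have hp : p.Prime := Fact.out
  set Q := P ⊓ kernel hC a with hQdef
  set C : Subgroup G := stabilizer G a ⊓ Subgroup.centralizer (Q : Set G) with hCdef
  have hPC : P ≤ C := fun x hx =>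
    ⟨hR.le hx, Subgroup.mem_centralizer_iff.2 fun q hq => hR.comm q hq.1 x hx⟩
  have hkey : (∀ y ∈ C, (∃ k, orderOf y = p ^ k) → y ∈ P) → False := fun h => hP fun g hg x hx => by
    refine h _ ⟨?_, ?_⟩ ?_
    · show (g * x * g⁻¹) • a = a
      rw [mul_smul, mul_smul, inv_smul_eq_iff.2 hg.symm, hR.le hx, hg]
    · refine Subgroup.mem_centralizer_iff.2 fun q hq => ?_
      have hg' : g⁻¹ • a = a := inv_smul_eq_iff.2 hg.symm
      have h1 := hR.comm _ (hR.inf_kernel_normal hb hQ hg' hq).1 x hx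
      rw [inv_inv] at h1
      have h2 : g * (g⁻¹ * q * g * x) * g⁻¹ = g * (x * (g⁻¹ * q * g)) * g⁻¹ := by rw [h1]
      simpa [mul_assoc] using h2
    · have h1 : orderOf (g * x * g⁻¹) ∣ p ^ 2 := by
        have h0 : x ^ p ^ 2 = 1 := by
          rw [← hR.card]
          exact orderOf_dvd_iff_pow_eq_one.1 (Subgroup.orderOf_dvd_natCard _ hx)
        rw [orderOf_dvd_iff_pow_eq_one, conj_pow, h0, mul_one, mul_inv_cancel]
      obtain ⟨k, -, hk⟩ := (Nat.dvd_prime_pow hp).1 h1
      exact ⟨k, hk⟩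
  have hCK : ∀ k ∈ C, k ∈ kernel hC a → k ∈ Q := by
    intro k hkC hkK
    obtain ⟨q, hq, hqb⟩ := hR.exists_mem_kernel hb (kernel_smul_mem hC hkK hb)
    have h1 : q⁻¹ * k = 1 := by
      refine hR.kernel_faithful hb (mul_mem (inv_mem hq.2) hkK) fun c hc => ?_
      rw [← hR.orbit_inf_kernel hb] at hc
      obtain ⟨⟨r, hr⟩, rfl⟩ := hc
      show (q⁻¹ * k) • r • b = r • b
      have h2 : r * k = k * r := Subgroup.mem_centralizer_iff.1 hkC.2 r hr
      have h3 : r * q⁻¹ = q⁻¹ * r := hR.comm r hr.1 q⁻¹ (inv_mem hq.1)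
      rw [← mul_smul, show q⁻¹ * k * r = r * (q⁻¹ * k) by
        rw [mul_assoc, ← h2, ← mul_assoc, ← h3, mul_assoc], mul_smul, mul_smul,
        ← hqb, inv_smul_smul]
    rw [← inv_mul_eq_one.1 h1]
    exact hq
  -- the action on the blocks
  let α := {B : Set Ω // ∃ c, c ≠ a ∧ B = hC.block a c}
  letI : MulAction C α :=
    { smul := fun g B => ⟨(g : G) • (B : Set Ω), by
        obtain ⟨c, hc, hB⟩ := B.2
        exact ⟨(g : G) • c, Cfg.smul_ne hc g.2.1, by rw [hB, hC.smul_block hc g.2.1]⟩⟩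
      one_smul := fun B => Subtype.ext (one_smul G (B : Set Ω))
      mul_smul := fun g h B => Subtype.ext (mul_smul (g : G) (h : G) (B : Set Ω)) }
  have hsmul : ∀ (g : C) (B : α), ((g • B : α) : Set Ω) = (g : G) • (B : Set Ω) := fun _ _ => rfl
  let Δ : α := ⟨hC.block a b, b, hb, rfl⟩
  haveI : IsPretransitive C α := by
    constructor
    intro B B'
    obtain ⟨c, hc, hB⟩ := B.2
    obtain ⟨d, hd, hB'⟩ := B'.2
    obtain ⟨x, hx, hxc⟩ := hR.trans c d hc hd
    exact ⟨⟨x, hPC hx⟩, Subtype.ext (by rw [hsmul, hB, hB', hC.smul_block hc (hR.le hx), hxc])⟩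
  have hα : Nat.card α = p := by
    letI : MulAction P α := MulAction.compHom α (Subgroup.inclusion hPC)
    haveI : IsPretransitive P α := ⟨fun B B' => by
      obtain ⟨c, hc, hB⟩ := B.2
      obtain ⟨d, hd, hB'⟩ := B'.2
      obtain ⟨x, hx, hxc⟩ := hR.trans c d hc hd
      exact ⟨⟨x, hx⟩, Subtype.ext (show x • (B : Set Ω) = B' by
        rw [hB, hB', hC.smul_block hc (hR.le hx), hxc])⟩⟩
    have hst : stabilizer P Δ = Q.subgroupOf P := by
      ext x
      constructor
      · intro h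
        exact ⟨x.2, hR.stab_block_le_kernel hb x.2 (congrArg Subtype.val h)⟩
      · intro h
        exact Subtype.ext (h.2.2 b hb)
    have h := (stabilizer P Δ).card_mul_index
    rw [index_stabilizer_of_transitive P Δ, hst,
      Nat.card_congr (Subgroup.subgroupOfEquivOfLe (inf_le_left : Q ≤ P)).toEquiv,
      hR.card_inf_kernel hb, hR.card, sq] at h
    exact Nat.eq_of_mul_eq_mul_left hp.pos h
  haveI : Finite α := Nat.finite_of_card_ne_zero (hα ▸ hp.ne_zero)
  rcases two_or_normal (C := C) hα with h2 | ⟨N, hN, hNcard, hNp⟩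
  swap
  · -- the regular subgroup is normal
    have hker : (MulAction.toPermHom C α).ker = Q.subgroupOf C := by
      ext g
      constructor
      · intro hg
        refine hCK g g.2 ⟨g.2.1, fun c hc => ?_⟩
        have h := congrArg (fun e : Equiv.Perm α => e ⟨hC.block a c, c, hc, rfl⟩)
          (MonoidHom.mem_ker.1 hg)
        exact congrArg Subtype.val h
      · intro hg
        refine MonoidHom.mem_ker.2 (Equiv.ext fun B => Subtype.ext ?_)
        obtain ⟨c, hc, hB⟩ := B.2
        show (g : G) • (B : Set Ω) = B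
        rw [hB]
        exact hg.2.2 c hc
    rw [hker, Nat.card_congr (Subgroup.subgroupOfEquivOfLe (inf_le_left.trans hPC : Q ≤ C)).toEquiv,
      hR.card_inf_kernel hb, ← sq] at hNcard
    have hPN : P.subgroupOf C ≤ N := fun x hx => hNp x (by
      have h1 : orderOf (x : G) ∣ p ^ 2 := hR.card ▸ Subgroup.orderOf_dvd_natCard _ hx
      obtain ⟨k, -, hk⟩ := (Nat.dvd_prime_pow hp).1 h1
      exact ⟨k, by rwa [← Subgroup.orderOf_coe]⟩)
    have hPc : Nat.card ↥(P.subgroupOf C) = p ^ 2 :=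
      (Nat.card_congr (Subgroup.subgroupOfEquivOfLe hPC).toEquiv).trans hR.card
    have heq := Subgroup.eq_of_le_of_card_ge hPN
      (by rw [hPc]; exact Nat.le_of_dvd (pow_pos hp.pos 2) hNcard)
    exact hkey fun y hy hyp => by
      obtain ⟨k, hk⟩ := hyp
      have := hNp ⟨y, hy⟩ ⟨k, by rwa [← Subgroup.orderOf_coe]⟩
      rw [← heq] at this
      exact this
  -- doubly transitive on the blocks
  have hCb : ∀ c d : Ω, c ≠ a → d ≠ a → c ∉ hC.block a b → d ∉ hC.block a b →
      ∃ g ∈ C, g • b = b ∧ g • c ∈ hC.block a d := by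
    intro c d hc hd hc' hd'
    have hne : ∀ e : Ω, ∀ he : e ≠ a, e ∉ hC.block a b → Δ ≠ (⟨hC.block a e, e, he, rfl⟩ : α) :=
      fun e he h h' => h (by have := hC.mem_block_self he; rwa [← show hC.block a b = hC.block a e from congrArg Subtype.val h'] at this)
    obtain ⟨g, hg1, hg2⟩ := is_two_pretransitive_iff.1 h2 (hne c hc hc') (hne d hd hd')
    have hg1' : (g : G) • hC.block a b = hC.block a b := congrArg Subtype.val hg1
    have hg2' : (g : G) • hC.block a c = hC.block a d := congrArg Subtype.val hg2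
    have hgb : (g : G) • b ∈ hC.block a b := (hC.fix_block_iff hb g.2.1).1 hg1'
    obtain ⟨q, hq, hqb⟩ := hR.exists_mem_kernel hb hgb
    refine ⟨q⁻¹ * g, mul_mem (inv_mem (hPC hq.1)) g.2, ?_, ?_⟩
    · rw [mul_smul, ← hqb, inv_smul_smul]
    · have h1 : (g : G) • c ∈ hC.block a d := hg2' ▸ Set.smul_mem_smul_set (hC.mem_block_self hc)
      have h3 : q⁻¹ • hC.block a d = hC.block a d := (inv_mem hq.2 : q⁻¹ ∈ kernel hC a).2 d hd
      rw [mul_smul, ← h3]
      exact Set.smul_mem_smul_set h1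
  by_cases hsub : hC.line b a ⊆ hC.line a b
  · exact hC.not_symm hp.two_le (Ne.symm hb) (Set.eq_of_subset_of_ncard_le hsub
      (by rw [hC.ncard_line b a hb, hC.ncard_line a b (Ne.symm hb)])).symm
  obtain ⟨y, hy, hy'⟩ := Set.not_subset.1 hsub
  have hya : y ≠ a := fun h => hy' (h ▸ hC.mem_left a b (Ne.symm hb))
  have hyΔ : y ∉ hC.block a b := fun h => hy' h.1
  -- the pointwise stabiliser of the line through `b` centred at `b` lies in the kernel
  have hT1 : fixingSubgroup G (hC.line b a) ≤ kernel hC a ⊓ stabilizer G b := by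
    intro g hg
    rw [mem_fixingSubgroup_iff] at hg
    have hga := hg a (hC.mem_right b a hb)
    have hgb := hg b (hC.mem_left b a hb)
    refine ⟨⟨hga, fun d hd => ?_⟩, hgb⟩
    by_cases hdΔ : d ∈ hC.block a b
    · rw [hC.block_eq_of_mem hb hdΔ, hC.smul_block hb hga, hgb]
    · obtain ⟨c, hcC, hcb, hcy⟩ := hCb y d hya hd hyΔ hdΔ
      have hca : c • a = a := hcC.1
      have hcL : c • y ∈ hC.line b a := by
        rw [← hca, show hC.line b (c • a) = hC.line (c • b) (c • a) by rw [hcb],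
          ← hC.smul_line c b a hb]
        exact Set.smul_mem_smul_set hy
      have hcya : c • y ≠ a := Cfg.smul_ne hya hca
      rw [← hC.block_eq_of_mem hd hcy, hC.smul_block hcya hga, hg _ hcL]
  -- it is small
  haveI : Fact (Nat.card Q).Prime := ⟨(hR.card_inf_kernel hb).symm ▸ hp⟩
  haveI : IsCyclic Q := isCyclic_of_prime_card (hR.card_inf_kernel hb)
  have hKb : Nat.card ↥(kernel hC a ⊓ stabilizer G b) ≤ p - 1 := by
    have hle : kernel hC a ⊓ stabilizer G b ≤ Subgroup.normalizer (Q : Set G) := by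
      intro g hg
      refine Subgroup.mem_normalizer_iff.2 fun w => ⟨hQ g hg.1 w, fun h => ?_⟩
      have := hQ g⁻¹ (inv_mem hg.1) _ h
      simpa [mul_assoc] using this
    let ψ := Q.normalizerMonoidHom.comp (Subgroup.inclusion hle)
    have hψ : Function.Injective ψ := by
      refine (injective_iff_map_eq_one ψ).2 fun g hg => ?_
      have h1 : Subgroup.inclusion hle g ∈ Q.normalizerMonoidHom.ker := MonoidHom.mem_ker.2 hg
      rw [Subgroup.normalizerMonoidHom_ker, Subgroup.mem_subgroupOf] at h1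
      refine Subtype.ext (hR.kernel_faithful hb g.2.1 fun c hc => ?_)
      rw [← hR.orbit_inf_kernel hb] at hc
      obtain ⟨⟨q, hq⟩, rfl⟩ := hc
      show (g : G) • q • b = q • b
      have h2 : q * (g : G) = (g : G) * q := Subgroup.mem_centralizer_iff.1 h1 q hq
      rw [← mul_smul, ← h2, mul_smul, g.2.2]
    have h := Nat.card_le_card_of_injective ψ hψ
    rwa [IsCyclic.card_mulAut, hR.card_inf_kernel hb, Nat.totient_prime hp] at h
  obtain ⟨t, hta, htb⟩ := hC.two a b b a (Ne.symm hb) hb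
  have hsl : t • hC.line a b = hC.line b a := by
    rw [hC.smul_line t a b (Ne.symm hb), hta, htb]
  have hconj : ∀ g ∈ C ⊓ stabilizer G b, t * g * t⁻¹ ∈ kernel hC a ⊓ stabilizer G b := by
    intro g hg
    refine hT1 ((mem_fixingSubgroup_iff G).2 fun d hd => ?_)
    rw [← hsl] at hd
    obtain ⟨e, he, rfl⟩ := hd
    rw [mul_smul, mul_smul, inv_smul_smul]
    congr 1
    by_cases hea : e = a
    · exact hea ▸ hg.1.1
    have he' : e ∈ hC.block a b := ⟨he, hea⟩
    rw [← hR.orbit_inf_kernel hb] at he'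
    obtain ⟨⟨q, hq⟩, rfl⟩ := he'
    show g • q • b = q • b
    have h2 : q * g = g * q := Subgroup.mem_centralizer_iff.1 hg.1.2 q hq
    rw [← mul_smul, ← h2, mul_smul, hg.2]
  have hCbcard : Nat.card ↥(C ⊓ stabilizer G b) ≤ p - 1 :=
    le_trans (Nat.card_le_card_of_injective
      (fun g => (⟨t * (g : G) * t⁻¹, hconj g g.2⟩ : ↥(kernel hC a ⊓ stabilizer G b)))
      (fun g g' h => Subtype.ext (by simpa using congrArg Subtype.val h))) hKb
  -- Sylow
  have horb : orbit C b = {a}ᶜ := by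
    refine Set.Subset.antisymm ?_ fun c hc => ?_
    · rintro _ ⟨g, rfl⟩; exact Cfg.smul_ne hb g.2.1
    · obtain ⟨x, hx, hxc⟩ := hR.trans b c hb hc
      exact ⟨⟨x, hPC hx⟩, hxc⟩
  have hcardC := card_inf_stabilizer C b
  rw [horb, hC.ncard_compl] at hcardC
  have hPc : Nat.card ↥(P.subgroupOf C) = p ^ 2 :=
    (Nat.card_congr (Subgroup.subgroupOfEquivOfLe hPC).toEquiv).trans hR.card
  have hidx : (P.subgroupOf C).index = Nat.card ↥(C ⊓ stabilizer G b) := by
    have h := (P.subgroupOf C).card_mul_index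
    rw [hPc, ← hcardC] at h
    exact Nat.eq_of_mul_eq_mul_left (pow_pos hp.pos 2) h
  have hnd : ¬ p ∣ (P.subgroupOf C).index := fun h => by
    have := Nat.le_of_dvd Nat.card_pos (hidx ▸ h)
    have := hp.two_le
    omega
  let S : Sylow p C := (IsPGroup.of_card hPc).toSylow hnd
  have hone : Nat.card (Sylow p C) = 1 := by
    have h1 := S.card_dvd_index
    have h2 := card_sylow_modEq_one p C
    have h3 : Nat.card (Sylow p C) ≤ p - 1 :=
      le_trans (Nat.le_of_dvd (by rw [show (S : Subgroup C) = P.subgroupOf C from rfl, hidx]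
                                  exact Nat.card_pos) h1)
        (by rw [show (S : Subgroup C) = P.subgroupOf C from rfl, hidx]; exact hCbcard)
    have hlt : Nat.card (Sylow p C) < p := by have := hp.two_le; omega
    have := h2
    rwa [Nat.ModEq, Nat.mod_eq_of_lt hlt, Nat.mod_eq_of_lt hp.one_lt] at this
  haveI : Subsingleton (Sylow p C) := (Nat.card_eq_one_iff_unique.1 hone).1
  refine hkey fun y hy hyp => ?_
  obtain ⟨k, hk⟩ := hyp
  have hpg : IsPGroup p (Subgroup.zpowers (⟨y, hy⟩ : C)) := IsPGroup.of_card (n := k) (by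
    rw [Nat.card_zpowers, ← Subgroup.orderOf_coe]; exact hk)
  obtain ⟨R, hR'⟩ := hpg.exists_le_sylow
  rw [Subsingleton.elim R S] at hR'
  exact hR' (Subgroup.mem_zpowers _)

end CfsgLib.Perm.PrimeSquarePlusOne
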