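import Cfsg.Agent.Lib.Perm.PrimeSquarePlusOne.Setting

/-!
# The order of the point stabiliser

* `Cfg.not_big`: `p ^ 3` does not divide the order of a point stabiliser.
* `Cfg.card_of_two`: for `p = 2` the group has order `20`.
-/

set_option autoImplicit false
set_option linter.all false

namespace CfsgLib.Perm.PrimeSquarePlusOne

open MulAction
open scoped Pointwise

variable {Ω : Type*} [Finite Ω] {p : ℕ} [Fact p.Prime] {G : Type*} [Group G] [Finite G]
  [MulAction G Ω] [FaithfulSMul G Ω] (hC : Cfg G Ω p)

include hC in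
theorem Cfg.not_big {a b : Ω} (hab : a ≠ b) (h3 : p ^ 3 ∣ Nat.card (stabilizer G a)) : False := by
  classical
  have hp : p.Prime := Fact.out
  have hba : b ≠ a := Ne.symm hab
  obtain ⟨P⟩ : Nonempty (Sylow p (stabilizer G a)) := inferInstance
  let P' : Subgroup G := (P : Subgroup (stabilizer G a)).map (stabilizer G a).subtype
  have hP'H : P' ≤ stabilizer G a := Subgroup.map_subtype_le _
  let k := (Nat.card (stabilizer G a)).factorization p
  have hP'card : Nat.card P' = p ^ k := by
    show Nat.card ↥((P : Subgroup (stabilizer G a)).map (stabilizer G a).subtype) = _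
    rw [Subgroup.card_map_of_injective (stabilizer G a).subtype_injective, P.card_eq_multiplicity]
  have hk : 3 ≤ k := (hp.pow_dvd_iff_le_factorization Nat.card_pos.ne').1 h3
  let T : Subgroup G := stabilizer G a ⊓ stabilizer G b
  have hT : (Nat.card T).factorization p = k - 2 := by
    have h := hC.card_stab hab
    show (Nat.card T).factorization p = (Nat.card (stabilizer G a)).factorization p - 2
    rw [h, Nat.factorization_mul (pow_pos hp.pos 2).ne' Nat.card_pos.ne', hp.factorization_pow]
    simp [T]
  have horb : orbit P' b = {a}ᶜ := by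
    ext c
    constructor
    · rintro ⟨x, rfl⟩; exact Cfg.smul_ne hba (hP'H x.2)
    · intro hc
      obtain ⟨x, hx, hxc⟩ := hC.sylow_transitive P hba hc
      exact ⟨⟨x, hx⟩, hxc⟩
  let R : Subgroup G := P' ⊓ stabilizer G b
  have hR : p ^ 2 * Nat.card R = p ^ k := by
    have := card_inf_stabilizer P' b
    rwa [horb, hC.ncard_compl, hP'card] at this
  have hRcard : Nat.card R = p ^ (k - 2) := by
    refine Nat.eq_of_mul_eq_mul_left (pow_pos hp.pos 2) ?_
    rw [hR, ← pow_add]; congr 1; omega
  have hRT : R ≤ T := inf_le_inf_right _ hP'H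
  let D : Subgroup G := P' ⊓ stabilizer G (hC.block a b)
  have hRD : R ≤ D := fun x hx => ⟨hx.1, (hC.fix_block_iff hba (hP'H hx.1)).2 (by
    rw [show x • b = b from hx.2]; exact hC.mem_block_self hba)⟩
  have horbD : orbit D b = hC.block a b := by
    ext c
    constructor
    · rintro ⟨x, rfl⟩
      exact (hC.fix_block_iff hba (hP'H x.2.1)).1 x.2.2
    · intro hc
      obtain ⟨x, hx, rfl⟩ := hC.sylow_transitive P hba (Cfg.ne_of_mem_block hC hc)
      exact ⟨⟨x, hx, (hC.fix_block_iff hba (hP'H hx)).2 hc⟩, rfl⟩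
  have hD : p * Nat.card R = Nat.card D := by
    have := card_inf_stabilizer D b
    rw [horbD, hC.ncard_block hba] at this
    have e : D ⊓ stabilizer G b = R := le_antisymm (inf_le_inf_right _ inf_le_left)
      (le_inf hRD inf_le_right)
    rwa [e] at this
  have hnorm : ∀ x ∈ D, ∀ r ∈ R, x * r * x⁻¹ ∈ R := by
    have hidx : (R.subgroupOf D).index = (Nat.card D).minFac := by
      have h1 : Nat.card (R.subgroupOf D) = Nat.card R :=
        Nat.card_congr (Subgroup.subgroupOfEquivOfLe hRD).toEquiv
      have h2 := (R.subgroupOf D).card_mul_index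
      rw [h1, ← hD, mul_comm p] at h2
      rw [Nat.eq_of_mul_eq_mul_left Nat.card_pos h2, ← hD, hRcard, ← pow_succ',
        hp.pow_minFac (Nat.succ_ne_zero _)]
    have := Subgroup.normal_of_index_eq_minFac_card hidx
    intro x hx r hr
    exact this.conj_mem ⟨r, hRD hr⟩ hr ⟨x, hx⟩
  have hfix : {c : Ω | ∀ r ∈ R, r • c = c} = hC.line a b := by
    ext c
    rw [← hC.insert_block hba]
    constructor
    · intro hc
      by_contra hcon
      simp only [Set.mem_insert_iff, not_or] at hcon
      obtain ⟨x, hx, rfl⟩ := hC.sylow_transitive P hba hcon.1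
      let M : Subgroup G := P' ⊓ Subgroup.normalizer (R : Set G)
      have hxM : x ∈ M := by
        refine ⟨hx, ?_⟩
        have hmem : ∀ r ∈ R, x⁻¹ * r * x ∈ R := fun r hr =>
          ⟨P'.mul_mem (P'.mul_mem (P'.inv_mem hx) hr.1) hx, by
            show (x⁻¹ * r * x) • b = b
            rw [mul_smul, mul_smul, hc r hr, inv_smul_smul]⟩
        refine (Subgroup.normalizer (R : Set G)).inv_mem_iff.1 (Subgroup.mem_normalizer_iff.2 fun h => ⟨fun hh => by
          rw [inv_inv]; exact hmem h hh, fun hh => ?_⟩)
        rw [inv_inv] at hh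
        have hbij : Function.Surjective
            (fun r : R => (⟨x⁻¹ * (r : G) * x, hmem r r.2⟩ : R)) :=
          Finite.surjective_of_injective fun r r' e => by
            have := congrArg Subtype.val e
            simpa using this
        obtain ⟨r, hr⟩ := hbij ⟨_, hh⟩
        have : x⁻¹ * (r : G) * x = x⁻¹ * h * x := congrArg Subtype.val hr
        have e : (r : G) = h := by simpa using this
        exact e ▸ r.2
      have hDM : D ≤ M := fun d hd => ⟨hd.1, Subgroup.mem_normalizer_iff.2 fun h =>
        ⟨fun hh => hnorm d hd h hh, fun hh => by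
          have := hnorm d⁻¹ (inv_mem hd) _ hh
          simpa [mul_assoc] using this⟩⟩
      have hM : M = P' := by
        refine Subgroup.eq_of_le_of_card_ge inf_le_left ?_
        obtain ⟨m, hm, hm'⟩ := (Nat.dvd_prime_pow hp).1
          (hP'card ▸ Subgroup.card_dvd_of_le (inf_le_left : M ≤ P'))
        have hlt : Nat.card D < Nat.card M := by
          refine lt_of_le_of_ne (Subgroup.card_le_of_le hDM) fun e => hcon.2 ?_
          have := Subgroup.eq_of_le_of_card_ge hDM e.ge
          exact (hC.fix_block_iff hba (hP'H hx)).1 (this ▸ hxM : x ∈ D).2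
        rw [← hD, hRcard, ← pow_succ', hm'] at hlt
        rw [hP'card, hm']
        exact Nat.pow_le_pow_right hp.pos (by
          have := (Nat.pow_lt_pow_iff_right hp.one_lt).1 hlt; omega)
      have hR1 : R = ⊥ := by
        refine (Subgroup.eq_bot_iff_forall R).2 fun r hr => eq_of_smul_eq_smul fun c : Ω => ?_
        rw [one_smul]
        by_cases hca : c = a
        · exact hca ▸ hP'H hr.1
        obtain ⟨y, hy, rfl⟩ := hC.sylow_transitive P hba hca
        have hyM : y ∈ Subgroup.normalizer (R : Set G) := (hM ▸ hy : y ∈ M).2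
        have hr' : y⁻¹ * r * y ∈ R := by
          have := (Subgroup.mem_normalizer_iff.1 (inv_mem hyM) r).1 hr
          rwa [inv_inv] at this
        have : (y⁻¹ * r * y) • b = b := hr'.2
        rw [mul_smul, mul_smul, inv_smul_eq_iff] at this
        exact this
      rw [hR1, Subgroup.card_bot] at hRcard
      exact absurd hRcard.symm (Nat.one_lt_pow (by omega) hp.one_lt).ne'
    · rintro (rfl | hc) r hr
      · exact hP'H hr.1
      · rw [← horbD] at hc
        obtain ⟨⟨x, hx⟩, rfl⟩ := hc
        have : (x⁻¹ * r * x⁻¹⁻¹) • b = b := (hnorm x⁻¹ (inv_mem hx) r hr).2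
        rw [inv_inv, mul_smul, mul_smul, inv_smul_eq_iff] at this
        exact this
  obtain ⟨t, hta, htb⟩ := hC.two a b b a hab hba
  let R' : Subgroup G := R.map (MulAut.conj t).toMonoidHom
  have hR'T : R' ≤ T := by
    rintro _ ⟨r, hr, rfl⟩
    constructor
    · show (t * r * t⁻¹) • a = a
      rw [mul_smul, mul_smul, show t⁻¹ • a = b from inv_smul_eq_iff.2 htb.symm,
        show r • b = b from hr.2, htb]
    · show (t * r * t⁻¹) • b = b
      rw [mul_smul, mul_smul, show t⁻¹ • b = a from inv_smul_eq_iff.2 hta.symm,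
        show r • a = a from hP'H hr.1, hta]
  have hcardT : ∀ S : Subgroup G, S ≤ T → Nat.card S = Nat.card R →
      Nat.card (S.subgroupOf T) = p ^ (Nat.card T).factorization p := fun S hS h => by
    rw [Nat.card_congr (Subgroup.subgroupOfEquivOfLe hS).toEquiv, h, hRcard, hT]
  let S1 := Sylow.ofCard _ (hcardT R hRT rfl)
  let S2 := Sylow.ofCard _ (hcardT R' hR'T
    (Subgroup.card_map_of_injective (MulAut.conj t).injective))
  obtain ⟨τ, hτ⟩ := exists_smul_eq T S1 S2
  have hτR : ∀ r ∈ R, (τ : G) * r * (τ : G)⁻¹ ∈ R' := by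
    intro r hr
    have h1 : (⟨r, hRT hr⟩ : T) ∈ (S1 : Subgroup T) := hr
    have h2 : τ * ⟨r, hRT hr⟩ * τ⁻¹ ∈ (S2 : Subgroup T) := by
      rw [← hτ, Sylow.coe_subgroup_smul]
      exact Subgroup.smul_mem_pointwise_smul _ (MulAut.conj τ) _ h1
    exact h2
  refine hC.not_symm hp.two_le hab (Set.eq_of_subset_of_ncard_le ?_ ?_).symm
  · intro c hc
    have hcR' : ∀ r ∈ R', r • c = c := by
      rintro _ ⟨r, hr, rfl⟩
      show (t * r * t⁻¹) • c = c
      have h1 : t⁻¹ • c ∈ hC.line a b := by
        have e : t • hC.line a b = hC.line b a := by rw [hC.smul_line t a b hab, hta, htb]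
        rw [← e] at hc
        exact Set.mem_smul_set_iff_inv_smul_mem.1 hc
      rw [← hfix] at h1
      rw [mul_smul, mul_smul, h1 r hr, smul_inv_smul]
    have h2 : (τ : G)⁻¹ • c ∈ hC.line a b := by
      rw [← hfix]
      intro r hr
      have := hcR' _ (hτR r hr)
      rw [mul_smul, mul_smul, ← eq_inv_smul_iff] at this
      exact this
    have e : (τ : G) • hC.line a b = hC.line a b := by
      rw [hC.smul_line _ a b hab, show (τ : G) • a = a from τ.2.1, show (τ : G) • b = b from τ.2.2]
    rw [← e]
    exact Set.mem_smul_set_iff_inv_smul_mem.2 h2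
  · rw [hC.ncard_line a b hab, hC.ncard_line b a hba]

include hC in
theorem Cfg.card_of_two (hp2 : p = 2) {a b : Ω} (hab : a ≠ b) : Nat.card G = 20 := by
  classical
  subst hp2
  have hba : b ≠ a := Ne.symm hab
  let T : Subgroup G := stabilizer G a ⊓ stabilizer G b
  have hT : T = ⊥ := by
    refine (Subgroup.eq_bot_iff_forall T).2 fun τ hτ => ?_
    have hodd : ¬ 2 ∣ orderOf τ := fun h => hC.not_big hab (by
      rw [hC.card_stab hab, pow_succ]
      exact Nat.mul_dvd_mul_left _ (h.trans (Subgroup.orderOf_dvd_natCard T hτ)))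
    have hline : τ • hC.line a b = hC.line a b := by
      rw [hC.smul_line _ a b hab, show τ • a = a from hτ.1, show τ • b = b from hτ.2]
    have hpair : ∀ (S : Set Ω), S.ncard ≤ 2 → τ • S = S → ∀ x ∈ S, (τ ^ 2) • x = x := by
      intro S hS hSτ x hx
      have h1 : τ • x ∈ S := hSτ ▸ Set.smul_mem_smul_set hx
      have h2 : τ • τ • x ∈ S := hSτ ▸ Set.smul_mem_smul_set h1
      rw [pow_two, mul_smul]
      by_contra hne
      have h3 : τ • x ≠ x := fun e => hne (by rw [e, e])
      have h4 : τ • τ • x ≠ τ • x := fun e => h3 (MulAction.injective τ e)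
      have : ({x, τ • x, τ • τ • x} : Set Ω).ncard ≤ 2 :=
        (Set.ncard_le_ncard (by simp [Set.insert_subset_iff, hx, h1, h2]) (Set.toFinite _)).trans hS
      rw [Set.ncard_insert_of_notMem (by simp [Ne.symm h3, Ne.symm hne]),
        Set.ncard_pair (Ne.symm h4)] at this
      omega
    have hsq : τ ^ 2 = 1 := by
      refine eq_of_smul_eq_smul fun x : Ω => ?_
      rw [one_smul]
      by_cases hx : x ∈ hC.line a b
      · rcases (hC.insert_block hba).symm ▸ hx with rfl | hxb
        · rw [pow_two, mul_smul, show τ • x = x from hτ.1, show τ • x = x from hτ.1]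
        · refine hpair _ (hC.ncard_block hba).le ?_ x hxb
          rw [hC.smul_block hba hτ.1, show τ • b = b from hτ.2]
      · refine hpair _ ?_ ?_ x (Set.mem_compl hx)
        · rw [Set.ncard_compl, hC.card_points, hC.ncard_line a b hab]; norm_num
        · rw [Set.smul_set_compl, hline]
    by_contra hne
    exact hodd (by rw [orderOf_eq_prime hsq hne])
  have h1 := hC.card_stab hab
  rw [show stabilizer G a ⊓ stabilizer G b = ⊥ from hT, Subgroup.card_bot] at h1
  have h2 := (stabilizer G a).card_mul_index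
  haveI : IsPretransitive G Ω := ⟨fun x y => by
    by_cases hxy : x = y
    · exact ⟨1, by rw [one_smul, hxy]⟩
    · obtain ⟨g, hg, -⟩ := hC.two x y y x hxy (Ne.symm hxy)
      exact ⟨g, hg⟩⟩
  rw [index_stabilizer_of_transitive, hC.card_points, h1] at h2
  rw [← h2]
  norm_num

end CfsgLib.Perm.PrimeSquarePlusOne
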