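import Mathlib

/-!
# Subsets of `ZMod p` whose `p`-fold convolution is constant off one point

* `eq_of_sum_eq_zero`: the rational relations between the `p`-th roots of unity.
* `conv`: the convolution powers of the indicator of a subset of `ZMod p`.
* `card_eq_of_conv`: such a subset is a single point or the complement of one.
-/

set_option autoImplicit false
set_option linter.all false

namespace CfsgLib.Perm.PrimeSquarePlusOne

open Polynomial in
theorem eq_of_sum_eq_zero {p : ℕ} [Fact p.Prime] {K : Type*} [Field K] [CharZero K] {ζ : K}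
    (hζ : IsPrimitiveRoot ζ p) (f : ZMod p → ℚ)
    (h : ∑ e, (f e : K) * ζ ^ e.val = 0) (e e' : ZMod p) : f e = f e' := by
  classical
  have hp : p.Prime := Fact.out
  let P : ℚ[X] := ∑ i : ZMod p, C (f i) * X ^ i.val
  have hP : ∀ i : ZMod p, P.coeff i.val = f i := by
    intro i
    rw [Polynomial.finsetSum_coeff, Finset.sum_eq_single i]
    · rw [coeff_C_mul_X_pow, if_pos rfl]
    · intro j _ hj
      rw [coeff_C_mul_X_pow, if_neg (fun hij => hj (ZMod.val_injective p hij.symm))]
    · intro hi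
      exact absurd (Finset.mem_univ i) hi
  have hev : aeval ζ P = 0 := by
    rw [map_sum, ← h]
    refine Finset.sum_congr rfl fun i _ => ?_
    rw [map_mul, aeval_C, map_pow, aeval_X, eq_ratCast]
  have hdvd : minpoly ℚ ζ ∣ P := minpoly.dvd ℚ ζ hev
  rw [← Polynomial.cyclotomic_eq_minpoly_rat hζ hp.pos] at hdvd
  obtain ⟨Q, hQ⟩ := hdvd
  have hQdeg : Q.natDegree = 0 := by
    by_contra hne
    have hQ0 : Q ≠ 0 := fun h0 => hne (by rw [h0, natDegree_zero])
    have h1 : P.natDegree ≤ p - 1 := natDegree_sum_le_of_forall_le _ _ fun i _ =>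
      (natDegree_C_mul_X_pow_le _ _).trans (by have := i.val_lt; omega)
    rw [hQ, natDegree_mul (cyclotomic_ne_zero p ℚ) hQ0, natDegree_cyclotomic,
      Nat.totient_prime hp] at h1
    omega
  obtain ⟨c, rfl⟩ := natDegree_eq_zero.1 hQdeg
  have hc : ∀ i : ZMod p, f i = c := by
    intro i
    rw [← hP, hQ, cyclotomic_prime, coeff_mul_C, finsetSum_coeff,
      Finset.sum_eq_single i.val, coeff_X_pow, if_pos rfl, one_mul]
    · intro j _ hj
      rw [coeff_X_pow, if_neg (Ne.symm hj)]
    · intro hi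
      exact absurd (Finset.mem_range.2 i.val_lt) hi
  rw [hc e, hc e']

variable {p : ℕ} [Fact p.Prime]

/-- The convolution powers of the indicator of `D`. -/
def conv (D : Finset (ZMod p)) : ℕ → ZMod p → ℚ
  | 0 => fun x => if x = 0 then 1 else 0
  | n + 1 => fun x => ∑ f, if x - f ∈ D then conv D n f else 0

theorem sum_conv {K : Type*} [Field K] [CharZero K] (ψ : AddChar (ZMod p) K)
    (D : Finset (ZMod p)) (n : ℕ) :
    ∑ x, (conv D n x : K) * ψ x = (∑ d ∈ D, ψ d) ^ n := by
  classical
  induction n with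
  | zero =>
    rw [pow_zero, Finset.sum_eq_single 0]
    · simp [conv]
    · intro x _ hx; simp [conv, hx]
    · intro h; exact absurd (Finset.mem_univ _) h
  | succ n ih =>
    rw [pow_succ, ← ih, Finset.sum_mul]
    simp only [conv, Rat.cast_sum, Finset.sum_mul]
    rw [Finset.sum_comm]
    refine Finset.sum_congr rfl fun f _ => ?_
    rw [← Equiv.sum_comp (Equiv.addRight f), Finset.mul_sum, ← Finset.sum_filter_add_sum_filter_not
      Finset.univ (fun x => x ∈ D)]
    rw [Finset.sum_eq_zero (s := Finset.univ.filter fun x => ¬ x ∈ D), add_zero,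
      Finset.filter_mem_eq_inter, Finset.univ_inter]
    · refine Finset.sum_congr rfl fun d hd => ?_
      simp only [Equiv.coe_addRight, add_sub_cancel_right, if_pos hd, AddChar.map_add_eq_mul]
      ring
    · intro x hx
      have hx' := (Finset.mem_filter.1 hx).2
      simp [hx']

/-- If the `p`-th convolution power is constant off one point, `D` is a point or misses one. -/
theorem card_eq_of_conv (hp2 : p ≠ 2) (D : Finset (ZMod p)) (hne : D.Nonempty)
    (huniv : D ≠ Finset.univ) (m : ZMod p)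
    (hconst : ∀ x y : ZMod p, x ≠ 0 → y ≠ 0 → conv D p (x - m) = conv D p (y - m)) :
    D.card = 1 ∨ D.card = p - 1 := by
  classical
  have hp : p.Prime := Fact.out
  haveI : NeZero p := ⟨hp.ne_zero⟩
  let K := CyclotomicField p ℚ
  haveI : IsCyclotomicExtension {p} ℚ K := CyclotomicField.isCyclotomicExtension p ℚ
  haveI : NumberField K := IsCyclotomicExtension.numberField {p} ℚ K
  obtain ⟨ζ, hζ⟩ : ∃ ζ : K, IsPrimitiveRoot ζ p :=
    ⟨_, IsCyclotomicExtension.zeta_spec p ℚ K⟩
  let ψ : AddChar (ZMod p) K := AddChar.zmodChar p hζ.pow_eq_one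
  have hψ : ∀ e, ψ e = ζ ^ e.val := AddChar.zmodChar_apply hζ.pow_eq_one
  set z := ∑ d ∈ D, ψ d with hz
  have hzsum : ∀ (q : ℚ) (i : ZMod p), z = (q : K) * ψ i → D.card = 1 ∨ D.card = p - 1 := by
    intro q i h
    let f : ZMod p → ℚ := fun e => (if e ∈ D then 1 else 0) - (if e = i then q else 0)
    have hf : ∑ e, (f e : K) * ζ ^ e.val = 0 := by
      have h1 : ∀ e, (f e : K) * ζ ^ e.val =
          (if e ∈ D then ψ e else 0) - (if e = i then (q : K) * ψ e else 0) := fun e => by
        rw [← hψ]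
        simp only [f, Rat.cast_sub, sub_mul]
        split_ifs <;> simp
      rw [Finset.sum_congr rfl fun e _ => h1 e, Finset.sum_sub_distrib, Finset.sum_ite_mem,
        Finset.univ_inter, Finset.sum_ite_eq' Finset.univ i, if_pos (Finset.mem_univ i), ← hz, h,
        sub_self]
    have hc := eq_of_sum_eq_zero hζ f hf
    by_cases hex : ∃ e ∈ D, e ≠ i
    · obtain ⟨e, heD, hei⟩ := hex
      refine Or.inr ?_
      have : D = Finset.univ.erase i := by
        refine Finset.eq_of_subset_of_card_le ?_ ?_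
        · intro x hx
          refine Finset.mem_erase.2 ⟨fun hxi => huniv ?_, Finset.mem_univ _⟩
          subst hxi
          refine Finset.eq_univ_iff_forall.2 fun y => ?_
          by_contra hy
          by_cases hyi : y = x
          · exact hy (hyi ▸ hx)
          have := hc e y
          simp [f, heD, hei, hy, hyi] at this
        · refine Finset.card_le_card fun y hy => ?_
          have hyi := (Finset.mem_erase.1 hy).1
          by_contra hyD
          have := hc e y
          simp [f, heD, hei, hyD, hyi] at this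
      rw [this, Finset.card_erase_of_mem (Finset.mem_univ i), Finset.card_univ, ZMod.card]
    · push Not at hex
      refine Or.inl (Finset.card_eq_one.2 ⟨i, Finset.eq_singleton_iff_unique_mem.2 ⟨?_, hex⟩⟩)
      obtain ⟨e, he⟩ := hne
      exact hex e he ▸ he
  have hz0 : z ≠ 0 := by
    intro h
    have hc := eq_of_sum_eq_zero hζ (fun e => if e ∈ D then (1 : ℚ) else 0) (by
      have h1 : ∀ e : ZMod p, (((if e ∈ D then (1 : ℚ) else 0) : ℚ) : K) * ζ ^ e.val =
          if e ∈ D then ψ e else 0 := fun e => by rw [← hψ]; split_ifs <;> simp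
      rw [Finset.sum_congr rfl fun e _ => h1 e, Finset.sum_ite_mem, Finset.univ_inter]
      exact h)
    obtain ⟨e, he⟩ := hne
    refine huniv (Finset.eq_univ_iff_forall.2 fun y => ?_)
    by_contra hy
    have := hc e y
    simp [he, hy] at this
  set r : ℚ := conv D p (0 - m) - conv D p (1 - m) with hr
  have hrz : z ^ p * ψ m = (r : K) := by
    rw [hz, ← sum_conv ψ D p, Finset.sum_mul, ← Equiv.sum_comp (Equiv.subRight m)]
    simp only [Equiv.subRight_apply, mul_assoc, ← AddChar.map_add_eq_mul, sub_add_cancel]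
    have hsum : ∑ x, ψ x = 0 := AddChar.sum_eq_zero_of_ne_one fun h => by
      have h1 : ψ 1 = 1 := by rw [h, AddChar.one_apply]
      rw [hψ, ZMod.val_one, pow_one] at h1
      exact hζ.ne_one hp.one_lt h1
    rw [← Finset.add_sum_erase _ _ (Finset.mem_univ (0 : ZMod p))] at hsum ⊢
    rw [Finset.sum_congr rfl fun x hx => by
      rw [hconst x 1 (Finset.mem_erase.1 hx).1 one_ne_zero], ← Finset.mul_sum,
      show ∑ x ∈ Finset.univ.erase 0, ψ x = -ψ 0 from eq_neg_of_add_eq_zero_right hsum,
      AddChar.map_zero_eq_one, hr, Rat.cast_sub]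
    ring
  have hψ0 : ψ m ≠ 0 := by
    rw [hψ]; exact pow_ne_zero _ (hζ.ne_zero hp.ne_zero)
  have hr0 : r ≠ 0 := fun h => by
    rw [h, Rat.cast_zero] at hrz
    exact mul_ne_zero (pow_ne_zero p hz0) hψ0 hrz
  have hirr : Irreducible (Polynomial.cyclotomic p ℚ) :=
    Polynomial.cyclotomic.irreducible_rat hp.pos
  set Nz : ℚ := Algebra.norm ℚ z with hN
  have hN0 : Nz ≠ 0 := Algebra.norm_ne_zero_iff.2 hz0
  have hnorm : Nz ^ p = r ^ (p - 1) := by
    have h := congrArg (Algebra.norm ℚ) hrz
    rw [map_mul, map_pow, hψ, map_pow, IsPrimitiveRoot.norm_eq_one (K := ℚ) hζ hp2 hirr, one_pow,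
      mul_one, ← hN, ← eq_ratCast (algebraMap ℚ K) r, Algebra.norm_algebraMap,
      IsCyclotomicExtension.finrank (n := p) K hirr, Nat.totient_prime hp] at h
    exact h
  set q := r / Nz with hq
  have hqp : q ^ p = r := by
    rw [hq, div_pow, hnorm, div_eq_iff (pow_ne_zero _ hr0), ← pow_succ',
      Nat.sub_add_cancel hp.one_le]
  have hq0 : q ≠ 0 := div_ne_zero hr0 hN0
  have hqK : (q : K) ≠ 0 := Rat.cast_ne_zero.2 hq0
  have hw : IsOfFinOrder (z / (q : K)) := by
    refine isOfFinOrder_iff_pow_eq_one.2 ⟨p * p, Nat.mul_pos hp.pos hp.pos, ?_⟩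
    have h1 : (z / (q : K)) ^ p * ψ m = 1 := by
      rw [div_pow, ← Rat.cast_pow, hqp, div_mul_eq_mul_div, hrz, div_self (Rat.cast_ne_zero.2 hr0)]
    have h2 : ψ m ^ p = 1 := by rw [hψ, ← pow_mul, mul_comm, pow_mul, hζ.pow_eq_one, one_pow]
    have h3 := congrArg (fun t => t ^ p) h1
    simp only [mul_pow, h2, one_pow, mul_one, ← pow_mul] at h3
    exact h3
  obtain ⟨i, hi, hzi⟩ := IsPrimitiveRoot.exists_pow_or_neg_mul_pow_of_isOfFinOrder
    (hp.odd_of_ne_two hp2) hζ hw
  have hψi : ψ (i : ZMod p) = ζ ^ i := by rw [hψ, ZMod.val_natCast, Nat.mod_eq_of_lt hi]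
  rcases hzi with h | h
  · exact hzsum q i (by rw [hψi, ← h, mul_div_cancel₀ _ hqK])
  · exact hzsum (-q) i (by rw [Rat.cast_neg, hψi, neg_mul, ← mul_neg, ← h, mul_div_cancel₀ _ hqK])

end CfsgLib.Perm.PrimeSquarePlusOne
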