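import Cfsg.Agent.Lib.Perm.PrimeSquarePlusOne.Regular
import Cfsg.Agent.Lib.Perm.PrimeSquarePlusOne.Dichotomy
import Cfsg.Agent.Lib.Perm.PrimeSquarePlusOne.Chain

/-!
# The kernel is doubly transitive on each block

* `Reg.kernel_two`: if `P ⊓ kernel` is not normal in the kernel, the kernel is doubly transitive
  on each block.
* `Reg.exists_fixed`: then a point stabiliser in the kernel fixes a point in every block.
-/

set_option autoImplicit false
set_option linter.all false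

namespace CfsgLib.Perm.PrimeSquarePlusOne

open MulAction
open scoped Pointwise

variable {Ω : Type*} [Finite Ω] {p : ℕ} [Fact p.Prime] {G : Type*} [Group G] [Finite G]
  [MulAction G Ω] [FaithfulSMul G Ω] {hC : Cfg G Ω p} {a b : Ω} {P : Subgroup G}

theorem Reg.kernel_two (hR : Reg hC a P)
    (hQ : ¬ ∀ k ∈ kernel hC a, ∀ x ∈ P ⊓ kernel hC a, k * x * k⁻¹ ∈ P ⊓ kernel hC a)
    {c d e : Ω} (hc : c ≠ a) (hd : d ∈ hC.block a c) (he : e ∈ hC.block a c) (hdc : d ≠ c)
    (hec : e ≠ c) : ∃ k ∈ kernel hC a, k • c = c ∧ k • d = e := by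
  classical
  have hp : p.Prime := Fact.out
  letI : MulAction (kernel hC a) ↥(hC.block a c) :=
    { smul := fun k x => ⟨(k : G) • (x : Ω), by
        have := kernel_smul_mem hC k.2 (Cfg.ne_of_mem_block hC x.2)
        rwa [hC.block_eq_of_mem hc x.2] at this⟩
      one_smul := fun x => Subtype.ext (one_smul G (x : Ω))
      mul_smul := fun g h x => Subtype.ext (mul_smul (g : G) (h : G) (x : Ω)) }
  haveI : IsPretransitive (kernel hC a) ↥(hC.block a c) := ⟨fun x y => by
    obtain ⟨q, hq, hqx⟩ := hR.exists_mem_kernel (Cfg.ne_of_mem_block hC x.2)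
      (d := (y : Ω)) (by rw [hC.block_eq_of_mem hc x.2]; exact y.2)
    exact ⟨⟨q, hq.2⟩, Subtype.ext hqx⟩⟩
  have hα : Nat.card ↥(hC.block a c) = p := by
    rw [Nat.card_coe_set_eq, hC.ncard_block hc]
  rcases two_or_normal (C := kernel hC a) hα with h2 | ⟨N, hN, hNcard, hNp⟩
  · have hne : ∀ z : ↥(hC.block a c), (z : Ω) ≠ c →
        (⟨c, hC.mem_block_self hc⟩ : ↥(hC.block a c)) ≠ z :=
      fun z hz h => hz (congrArg Subtype.val h).symm
    obtain ⟨k, hk1, hk2⟩ :=
      is_two_pretransitive_iff.1 h2 (hne ⟨d, hd⟩ hdc) (hne ⟨e, he⟩ hec)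
    exact ⟨k, k.2, congrArg Subtype.val hk1, congrArg Subtype.val hk2⟩
  exfalso
  have hker : (MulAction.toPermHom (kernel hC a) ↥(hC.block a c)).ker = ⊥ := by
    refine (Subgroup.eq_bot_iff_forall _).2 fun k hk => ?_
    refine Subtype.ext (hR.kernel_faithful hc k.2 fun x hx => ?_)
    have h := congrArg (fun σ : Equiv.Perm ↥(hC.block a c) => σ ⟨x, hx⟩) (MonoidHom.mem_ker.1 hk)
    exact congrArg Subtype.val h
  rw [hker, Subgroup.card_bot, mul_one] at hNcard
  set Q' := (P ⊓ kernel hC a).subgroupOf (kernel hC a)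
  have hQc : Nat.card Q' = p :=
    (Nat.card_congr (Subgroup.subgroupOfEquivOfLe inf_le_right).toEquiv).trans
      (hR.card_inf_kernel hc)
  have hQN : Q' ≤ N := fun x hx => hNp x (by
    have h1 : orderOf x ∣ p := (Subgroup.orderOf_dvd_natCard _ hx).trans (dvd_of_eq hQc)
    rcases (Nat.dvd_prime hp).1 h1 with h | h
    · exact ⟨0, by rw [h, pow_zero]⟩
    · exact ⟨1, by rw [h, pow_one]⟩)
  have heq : Q' = N := Subgroup.eq_of_le_of_card_ge hQN
    (by rw [hQc]; exact Nat.le_of_dvd hp.pos hNcard)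
  refine hQ fun k hk x hx => ?_
  have := hN.conj_mem ⟨x, hx.2⟩ (by rw [← heq]; exact hx) ⟨k, hk⟩
  rw [← heq] at this
  exact this

theorem Reg.card_kernel (hR : Reg hC a P) (hb : b ≠ a) :
    p * Nat.card ↥(kernel hC a ⊓ stabilizer G b) = Nat.card (kernel hC a) := by
  have horb : orbit (kernel hC a) b = hC.block a b := by
    refine Set.Subset.antisymm ?_ ?_
    · rintro _ ⟨k, rfl⟩; exact kernel_smul_mem hC k.2 hb
    · rw [← hR.orbit_inf_kernel hb]
      rintro _ ⟨k, rfl⟩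
      exact ⟨⟨k, k.2.2⟩, rfl⟩
  have hcard := card_inf_stabilizer (kernel hC a) b
  rwa [horb, hC.ncard_block hb] at hcard

theorem Reg.pow_prime_mem (hR : Reg hC a P) (hb : b ≠ a) {u : G} (hu : u ∈ P) :
    u ^ p ∈ P ⊓ kernel hC a ∧ (u ∉ kernel hC a → ∀ x ∈ P, ∃ i : ℕ, (u ^ i)⁻¹ * x ∈ kernel hC a) := by
  have hp : p.Prime := Fact.out
  set Q' := (P ⊓ kernel hC a).subgroupOf P
  haveI : Q'.Normal := ⟨fun n hn g => by
    have hng : g * n = n * g := Subtype.ext (hR.comm g g.2 n n.2)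
    rw [show g * n * g⁻¹ = n by rw [hng, mul_inv_cancel_right]]
    exact hn⟩
  have hidx : Q'.index = p := by
    have h := Q'.card_mul_index
    rw [Nat.card_congr (Subgroup.subgroupOfEquivOfLe (inf_le_left : P ⊓ kernel hC a ≤ P)).toEquiv,
      hR.card_inf_kernel hb, hR.card, sq] at h
    exact Nat.eq_of_mul_eq_mul_left hp.pos h
  have hmem : ∀ y : P, (QuotientGroup.mk y : P ⧸ Q') = 1 ↔ (y : G) ∈ kernel hC a := fun y => by
    rw [QuotientGroup.eq_one_iff]
    exact ⟨fun h => h.2, fun h => ⟨y.2, h⟩⟩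
  refine ⟨?_, fun hun x hx => ?_⟩
  · have h := Subgroup.pow_index_mem Q' (⟨u, hu⟩ : P)
    rw [hidx] at h
    exact h
  · have hne : (QuotientGroup.mk ⟨u, hu⟩ : P ⧸ Q') ≠ 1 := fun h => hun ((hmem _).1 h)
    haveI : Fact p.Prime := ⟨hp⟩
    obtain ⟨i, hi⟩ := mem_powers_of_prime_card (p := p) (Q'.index_eq_card ▸ hidx) hne
      (g' := (QuotientGroup.mk ⟨x, hx⟩ : P ⧸ Q'))
    refine ⟨i, ?_⟩
    have h1 : (QuotientGroup.mk (((⟨u, hu⟩ : P) ^ i)⁻¹ * ⟨x, hx⟩) : P ⧸ Q') = 1 := by
      have hi' : (QuotientGroup.mk ⟨u, hu⟩ : P ⧸ Q') ^ i = QuotientGroup.mk ⟨x, hx⟩ := hi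
      rw [QuotientGroup.mk_mul, QuotientGroup.mk_inv, QuotientGroup.mk_pow, hi', inv_mul_cancel]
    exact (hmem _).1 h1

theorem Reg.exists_fixed_aux (hR : Reg hC a P)
    (hQ : ¬ ∀ k ∈ kernel hC a, ∀ x ∈ P ⊓ kernel hC a, k * x * k⁻¹ ∈ P ⊓ kernel hC a)
    (hp2 : p ≠ 2) (hb : b ≠ a) {u : G} (hu : u ∈ P) (hun : u ∉ kernel hC a) :
    ∃ y ∈ hC.block a (u • b), ∀ k ∈ kernel hC a, k • b = b → k • y = y := by
  classical
  have hp : p.Prime := Fact.out
  haveI : NeZero p := ⟨hp.ne_zero⟩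
  set K := kernel hC a with hK
  have hQc := hR.card_inf_kernel hb
  haveI : IsCyclic ↥(P ⊓ K) := isCyclic_of_prime_card hQc
  obtain ⟨σ, hσ⟩ := IsCyclic.exists_generator (α := ↥(P ⊓ K))
  let w : ZMod p → G := fun e => (σ : G) ^ e.val
  have hw : ∀ e, w e ∈ P ⊓ K := fun e => pow_mem σ.2 _
  have hσp : (σ : G) ^ p = 1 := by
    rw [← hQc]
    exact orderOf_dvd_iff_pow_eq_one.1 (Subgroup.orderOf_dvd_natCard _ σ.2)
  have hwadd : ∀ e f, w (e + f) = w e * w f := fun e f => by
    show (σ : G) ^ (e + f).val = _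
    rw [ZMod.val_add, ← pow_eq_pow_mod _ hσp, pow_add]
  let pt : ZMod p → Ω := fun e => w e • b
  have hw0 : w 0 = 1 := by show (σ : G) ^ (0 : ZMod p).val = 1; rw [ZMod.val_zero, pow_zero]
  have hpt0 : pt 0 = b := by show w 0 • b = b; rw [hw0, one_smul]
  have hptmem : ∀ e, pt e ∈ hC.block a b := fun e => kernel_smul_mem hC (hw e).2 hb
  have hptsurj : ∀ c ∈ hC.block a b, ∃ e, pt e = c := by
    intro c hc
    obtain ⟨q, hq, hqb⟩ := hR.exists_mem_kernel hb hc
    obtain ⟨n, hn⟩ := (mem_powers_iff_mem_zpowers.2 (hσ ⟨q, hq⟩))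
    refine ⟨(n : ZMod p), ?_⟩
    show (σ : G) ^ ((n : ZMod p)).val • b = c
    have hn' : (σ : G) ^ n = q := congrArg Subtype.val hn
    rw [ZMod.val_natCast, ← pow_eq_pow_mod n hσp, hn', hqb]
  have hptinj : Function.Injective pt := by
    have hs : Function.Surjective (fun e => (⟨pt e, hptmem e⟩ : hC.block a b)) := fun c => by
      obtain ⟨e, he⟩ := hptsurj c c.2
      exact ⟨e, Subtype.ext he⟩
    have hbij := (Nat.bijective_iff_surjective_and_card _).2
      ⟨hs, by rw [Nat.card_zmod, Nat.card_coe_set_eq, hC.ncard_block hb]⟩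
    exact fun e f h => hbij.1 (Subtype.ext h)
  -- the permutation of the block induced by an element of the kernel
  have hπex : ∀ k : G, ∀ e, ∃ f, k ∈ K → k • pt e = pt f := by
    intro k e
    by_cases hk : k ∈ K
    · have h1 := kernel_smul_mem hC hk (Cfg.ne_of_mem_block hC (hptmem e))
      rw [hC.block_eq_of_mem hb (hptmem e)] at h1
      obtain ⟨f, hf⟩ := hptsurj _ h1
      exact ⟨f, fun _ => hf.symm⟩
    · exact ⟨e, fun h => absurd h hk⟩
  choose π hπ using hπex
  have hπinj : ∀ k ∈ K, Function.Injective (π k) := fun k hk e f h => by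
    have := hπ k e hk
    rw [h, ← hπ k f hk] at this
    exact hptinj (MulAction.injective k this)
  have hua : u • a = a := hR.le hu
  have hucomm : ∀ e, u * w e = w e * u := fun e => hR.comm u hu _ (hw e).1
  have hcK : ∀ (n : ℕ) (k : G), k ∈ K → (u ^ n)⁻¹ * k * u ^ n ∈ K := fun n k hk => by
    have h0 : ((u ^ n)⁻¹ : G) • a = a :=
      inv_mem (pow_mem (hR.le hu) n : u ^ n ∈ stabilizer G a)
    have := conj_mem_kernel hC h0 hk
    rwa [inv_inv] at this
  have hcK1 : ∀ k ∈ K, u⁻¹ * k * u ∈ K := fun k hk => by simpa using hcK 1 k hk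
  -- the orbit of the pair `(b, u • b)`
  let R : ZMod p → ZMod p → Prop := fun f e => ∃ k ∈ K, k • b = pt f ∧ k • u • b = u • pt e
  have hshift : ∀ f e i, R f e → R (i + f) (i + e) := by
    rintro f e i ⟨k, hk, h1, h2⟩
    refine ⟨w i * k, mul_mem (hw i).2 hk, ?_, ?_⟩
    · show (w i * k) • b = w (i + f) • b
      rw [mul_smul, h1, hwadd, mul_smul]
    · show (w i * k) • u • b = u • w (i + e) • b
      rw [mul_smul, h2, ← mul_smul, ← hucomm, mul_smul, hwadd, mul_smul]
  have hR1 : ∀ l ∈ K, ∀ f e, (R (π l f) (π (u⁻¹ * l * u) e) ↔ R f e) := by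
    intro l hl f e
    have hl' := hcK1 l hl
    have e2 : l • u • pt e = u • pt (π (u⁻¹ * l * u) e) := by
      rw [← hπ _ e hl']; simp only [mul_smul, smul_inv_smul]
    constructor
    · rintro ⟨k, hk, h1, h2⟩
      refine ⟨l⁻¹ * k, mul_mem (inv_mem hl) hk, ?_, ?_⟩
      · rw [mul_smul, h1, inv_smul_eq_iff, hπ l f hl]
      · rw [mul_smul, h2, inv_smul_eq_iff, e2]
    · rintro ⟨k, hk, h1, h2⟩
      exact ⟨l * k, mul_mem hl hk, by rw [mul_smul, h1, hπ l f hl], by rw [mul_smul, h2, e2]⟩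
  let D : Finset (ZMod p) := Finset.univ.filter fun d => R 0 d
  have hRD : ∀ f e, R f e ↔ e - f ∈ D := fun f e => by
    simp only [D, Finset.mem_filter, Finset.mem_univ, true_and]
    constructor
    · intro h
      have := hshift f e (-f) h
      rwa [neg_add_cancel, neg_add_eq_sub] at this
    · intro h
      have := hshift 0 (e - f) f h
      rwa [add_zero, add_sub_cancel] at this
  have hD0 : (0 : ZMod p) ∈ D := by
    simp only [D, Finset.mem_filter, Finset.mem_univ, true_and]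
    exact ⟨1, one_mem _, by rw [one_smul, hpt0], by rw [one_smul, hpt0]⟩
  have hDuniv : D ≠ Finset.univ := by
    intro hD
    apply hC.not_dvd_two_point (Ne.symm hb)
    refine dvd_trans ?_ (Subgroup.card_dvd_of_le
      (inf_le_inf_right _ (kernel_le hC a) : K ⊓ stabilizer G b ≤ _))
    rw [← card_inf_stabilizer (K ⊓ stabilizer G b) (u • b)]
    refine dvd_mul_of_dvd_left (dvd_of_eq ?_) _
    have hub : u • b ≠ a := Cfg.smul_ne hb hua
    have heq : orbit ↥(K ⊓ stabilizer G b) (u • b) = hC.block a (u • b) := by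
      refine Set.Subset.antisymm ?_ ?_
      · rintro _ ⟨k, rfl⟩; exact kernel_smul_mem hC k.2.1 hub
      · rw [← hC.smul_block hb hua]
        rintro _ ⟨c, hc, rfl⟩
        obtain ⟨e, rfl⟩ := hptsurj c hc
        have he : e ∈ D := hD ▸ Finset.mem_univ e
        simp only [D, Finset.mem_filter, Finset.mem_univ, true_and] at he
        obtain ⟨k, hk, h1, h2⟩ := he
        exact ⟨⟨k, hk, h1.trans hpt0⟩, h2⟩
    rw [heq, hC.ncard_block hub]
  -- the chain of `p` steps
  have hinv : ∀ n : ℕ, ∀ k ∈ K, ∀ i e,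
      conv D n (π ((u ^ n)⁻¹ * k * u ^ n) e - π k i) = conv D n (e - i) := by
    intro n
    induction n with
    | zero =>
      intro k hk i e
      simp only [pow_zero, inv_one, one_mul, mul_one, conv, sub_eq_zero]
      exact if_congr (hπinj k hk).eq_iff rfl rfl
    | succ n ih =>
      intro k hk i e
      set l := (u ^ n)⁻¹ * k * u ^ n with hl
      have hlK : l ∈ K := hcK n k hk
      have hl' : (u ^ (n + 1))⁻¹ * k * u ^ (n + 1) = u⁻¹ * l * u := by
        rw [hl, pow_succ, mul_inv_rev]; group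
      rw [hl']
      simp only [conv]
      have hb1 : Function.Bijective (fun g => π l g - π k i) :=
        Finite.injective_iff_bijective.1 fun g g' h => hπinj l hlK (sub_left_injective h)
      rw [← (Equiv.ofBijective _ hb1).sum_comp,
        ← (Equiv.subRight i).sum_comp (fun f => if e - i - f ∈ D then conv D n f else 0)]
      refine Finset.sum_congr rfl fun g _ => ?_
      simp only [Equiv.ofBijective_apply, Equiv.subRight_apply, sub_sub_sub_cancel_right]
      rw [ih k hk i g]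
      exact if_congr (by rw [← hRD, ← hRD, hR1 l hlK]) rfl rfl
  obtain ⟨m, hm⟩ : ∃ m, u ^ p = w m := by
    have h1 := (hR.pow_prime_mem hb hu).1
    obtain ⟨e, he⟩ := hptsurj _ (kernel_smul_mem hC h1.2 hb)
    refine ⟨e, ?_⟩
    have := hR.eq_one ((w e)⁻¹ * u ^ p) (mul_mem (inv_mem (hw e).1) h1.1) b hb
      (by rw [mul_smul, ← he]; exact inv_smul_smul _ _)
    exact (inv_mul_eq_one.1 this).symm
  have hconst : ∀ x y : ZMod p, x ≠ 0 → y ≠ 0 → conv D p (x - m) = conv D p (y - m) := by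
    intro x y hx hy
    obtain ⟨k, hk, hkb, hkx⟩ := hR.kernel_two hQ hb (hptmem x) (hptmem y)
      (fun h => hx (hptinj (h.trans hpt0.symm))) (fun h => hy (hptinj (h.trans hpt0.symm)))
    have hk0 : π k 0 = 0 := hptinj (by rw [← hπ k 0 hk, hpt0, hkb])
    have hkx' : π k x = y := hptinj (by rw [← hπ k x hk, hkx])
    have hc := hcK p k hk
    have hup : ∀ e, u ^ p • pt e = pt (e + m) := fun e => by
      show u ^ p • w e • b = w (e + m) • b
      rw [hm, add_comm, hwadd, mul_smul]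
    have h1 : π k x = π ((u ^ p)⁻¹ * k * u ^ p) (x - m) + m := by
      refine hptinj ?_
      rw [← hup, ← hπ _ (x - m) hc, mul_smul, mul_smul, smul_inv_smul, hup, sub_add_cancel, hπ k x hk]
    have h2 := hinv p k hk 0 (x - m)
    rw [hk0, sub_zero, sub_zero, eq_sub_of_add_eq h1.symm, hkx'] at h2
    exact h2.symm
  -- conclude
  have hDinv : ∀ k ∈ K, k • b = b → ∀ e, (π (u⁻¹ * k * u) e ∈ D ↔ e ∈ D) := by
    intro k hk hkb e
    have hk0 : π k 0 = 0 := hptinj (by rw [← hπ k 0 hk, hpt0, hkb])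
    have := hR1 k hk 0 e
    rwa [hk0, hRD, hRD, sub_zero, sub_zero] at this
  have hfixed : ∀ e0, (∀ e, (e ∈ D ↔ e = e0)) ∨ (∀ e, (e ∈ D ↔ e ≠ e0)) →
      ∃ y ∈ hC.block a (u • b), ∀ k ∈ K, k • b = b → k • y = y := by
    intro e0 he0
    refine ⟨u • pt e0, ?_, fun k hk hkb => ?_⟩
    · rw [← hC.smul_block hb hua]; exact Set.smul_mem_smul_set (hptmem e0)
    · have hk' := hcK1 k hk
      have hfix : π (u⁻¹ * k * u) e0 = e0 := by
        rcases he0 with h | h
        · exact (h _).1 ((hDinv k hk hkb e0).2 ((h e0).2 rfl))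
        · by_contra hne
          exact (h e0).1 ((hDinv k hk hkb e0).1 ((h _).2 hne)) rfl
      have := hπ _ e0 hk'
      rw [hfix] at this
      rw [mul_smul, mul_smul, inv_smul_eq_iff] at this
      exact this
  rcases card_eq_of_conv hp2 D ⟨0, hD0⟩ hDuniv m hconst with h | h
  · obtain ⟨e0, he0⟩ := Finset.card_eq_one.1 h
    exact hfixed e0 (Or.inl fun e => by rw [he0, Finset.mem_singleton])
  · have h' : Dᶜ.card = 1 := by
      rw [Finset.card_compl, ZMod.card, h]
      have := hp.two_le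
      omega
    obtain ⟨e0, he0⟩ := Finset.card_eq_one.1 h'
    refine hfixed e0 (Or.inr fun e => ?_)
    rw [← not_iff_not, ← Finset.mem_compl, he0, Finset.mem_singleton, not_not]

end CfsgLib.Perm.PrimeSquarePlusOne
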