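import Cfsg.Agent.Lib.Perm.PrimeSquarePlusOne.Gamma

/-!
# No doubly transitive kernel on the blocks

* `Reg.false_of_not_normal`: the Sylow subgroup of the kernel is normal in the kernel.
-/

set_option autoImplicit false
set_option linter.all false

namespace CfsgLib.Perm.PrimeSquarePlusOne

open MulAction
open scoped Pointwise

variable {Ω : Type*} [Finite Ω] {p : ℕ} [Fact p.Prime] {G : Type*} [Group G] [Finite G]
  [MulAction G Ω] [FaithfulSMul G Ω] {hC : Cfg G Ω p} {a b : Ω} {P : Subgroup G}

theorem Reg.false_of_not_normal (hR : Reg hC a P)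
    (hQ : ¬ ∀ k ∈ kernel hC a, ∀ x ∈ P ⊓ kernel hC a, k * x * k⁻¹ ∈ P ⊓ kernel hC a)
    (hp2 : p ≠ 2) (hb : b ≠ a) : False := by
  classical
  have hp : p.Prime := Fact.out
  have hp3 : 3 ≤ p := by have := hp.two_le; omega
  have hex : ∀ x : Ω, x ≠ a → ∀ c : Ω, c ≠ a →
      ∃ y ∈ hC.block a c, ∀ k ∈ kernel hC a, k • x = x → k • y = y := by
    intro x hx c hc
    obtain ⟨u, hu, hux⟩ := hR.trans x c hx hc
    by_cases hun : u ∈ kernel hC a
    · refine ⟨x, ?_, fun k _ h => h⟩
      have h1 : c ∈ hC.block a x := hux ▸ kernel_smul_mem hC hun hx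
      rw [hC.block_eq_of_mem hx h1]
      exact hC.mem_block_self hx
    · exact hux ▸ hR.exists_fixed_aux hQ hp2 hx hu hun
  have hstab : ∀ x y : Ω, x ≠ a → y ≠ a → (∀ k ∈ kernel hC a, k • x = x → k • y = y) →
      ∀ k ∈ kernel hC a, k • y = y → k • x = x := by
    intro x y hx hy h k hk hky
    have hle : kernel hC a ⊓ stabilizer G x ≤ kernel hC a ⊓ stabilizer G y :=
      fun g hg => ⟨hg.1, h g hg.1 hg.2⟩
    have hcard : Nat.card ↥(kernel hC a ⊓ stabilizer G y) ≤
        Nat.card ↥(kernel hC a ⊓ stabilizer G x) := le_of_eq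
      (Nat.eq_of_mul_eq_mul_left hp.pos ((hR.card_kernel hy).trans (hR.card_kernel hx).symm))
    have heq := Subgroup.eq_of_le_of_card_ge hle hcard
    exact ((heq.symm ▸ (⟨hk, hky⟩ : k ∈ kernel hC a ⊓ stabilizer G y)) :
      k ∈ kernel hC a ⊓ stabilizer G x).2
  let W : Ω → Set Ω := fun x => {c | c ≠ a ∧ ∀ k ∈ kernel hC a, k • x = x → k • c = c}
  have huniq : ∀ x, x ≠ a → ∀ y ∈ W x, ∀ y' ∈ W x, y' ∈ hC.block a y → y' = y := by
    intro x hx y hy y' hy' hblk
    by_contra hne
    obtain ⟨z, hz, hzy, hzy'⟩ : ∃ z ∈ hC.block a y, z ≠ y ∧ z ≠ y' := by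
      by_contra hcon
      push Not at hcon
      have hsub : hC.block a y ⊆ {y, y'} := fun z hz => by
        by_cases hzy : z = y
        · exact Or.inl hzy
        · exact Or.inr (hcon z hz hzy)
      have := (Set.ncard_le_ncard hsub (Set.toFinite _)).trans (Set.ncard_insert_le _ _)
      rw [hC.ncard_block hy.1, Set.ncard_singleton] at this
      omega
    obtain ⟨k, hk, hky, hkz⟩ := hR.kernel_two hQ hy.1 hblk hz hne hzy
    rw [hy'.2 k hk (hstab x y hx hy.1 hy.2 k hk hky)] at hkz
    exact hzy' hkz.symm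
  have hWsub : ∀ x, x ≠ a → ∀ c ∈ W x, W c = W x := by
    intro x hx c hc
    ext y
    exact ⟨fun hy => ⟨hy.1, fun k hk h => hy.2 k hk (hc.2 k hk h)⟩,
      fun hy => ⟨hy.1, fun k hk h => hy.2 k hk (hstab x c hx hc.1 hc.2 k hk h)⟩⟩
  have hWeq : ∀ g : G, g • a = a → ∀ x y : Ω, y ∈ W x → g • y ∈ W (g • x) := by
    intro g hg x y hy
    refine ⟨Cfg.smul_ne hy.1 hg, fun k hk h => ?_⟩
    have hg' : g⁻¹ • a = a := inv_smul_eq_iff.2 hg.symm
    have h1 := conj_mem_kernel hC hg' hk
    rw [inv_inv] at h1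
    have h2 := hy.2 _ h1 (by rw [mul_smul, mul_smul, h, inv_smul_smul])
    rw [mul_smul, mul_smul, inv_smul_eq_iff] at h2
    exact h2
  have hWcard : ∀ x, x ≠ a → (W x).ncard = p := by
    intro x hx
    let Q' := (P ⊓ kernel hC a).subgroupOf P
    have hidx : Q'.index = p := by
      have h := Q'.card_mul_index
      rw [Nat.card_congr (Subgroup.subgroupOfEquivOfLe (inf_le_left : P ⊓ kernel hC a ≤ P)).toEquiv,
        hR.card_inf_kernel hx, hR.card, sq] at h
      exact Nat.eq_of_mul_eq_mul_left hp.pos h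
    have hco : ∀ c : W x, ∃ u : P, (u : G) • x = c := fun c => by
      obtain ⟨u, hu, huc⟩ := hR.trans x c hx c.2.1
      exact ⟨⟨u, hu⟩, huc⟩
    choose co hco' using hco
    have hblk : ∀ u v : P, (QuotientGroup.mk u : P ⧸ Q') = QuotientGroup.mk v ↔
        (v : G) • x ∈ hC.block a ((u : G) • x) := by
      intro u v
      have hua : (u : G) • a = a := hR.le u.2
      have hcomm : (u : G) * ((u : G)⁻¹ * v) = v := mul_inv_cancel_left _ _
      rw [QuotientGroup.eq, ← hC.smul_block hx hua]
      constructor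
      · intro h
        exact ⟨((u : G)⁻¹ * v) • x, kernel_smul_mem hC h.2 hx,
          show (u : G) • ((u : G)⁻¹ * v) • x = (v : G) • x by rw [← mul_smul, hcomm]⟩
      · intro h
        have hm : (u : G)⁻¹ * (v : G) ∈ P := mul_mem (inv_mem u.2) v.2
        refine ⟨hm, hR.stab_block_le_kernel hx hm
          ((hC.fix_block_iff hx (hR.le hm)).2 ?_)⟩
        rw [Set.mem_smul_set_iff_inv_smul_mem, ← mul_smul] at h
        exact h
    have hbij : Function.Bijective (fun c : W x => (QuotientGroup.mk (co c) : P ⧸ Q')) := by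
      refine ⟨fun c d h => ?_, fun q => ?_⟩
      · have h1 := (hblk _ _).1 h
        rw [hco', hco'] at h1
        exact Subtype.ext (huniq x hx c c.2 d d.2 h1).symm
      · obtain ⟨u, rfl⟩ := QuotientGroup.mk_surjective q
        have hua : (u : G) • a = a := hR.le u.2
        obtain ⟨y, hy, hyf⟩ := hex x hx ((u : G) • x) (Cfg.smul_ne hx hua)
        refine ⟨⟨y, Cfg.ne_of_mem_block hC hy, hyf⟩, ?_⟩
        refine ((hblk u (co _)).2 ?_).symm
        rw [hco']
        exact hy
    rw [← Nat.card_coe_set_eq, Nat.card_congr (Equiv.ofBijective _ hbij), ← Subgroup.index_eq_card,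
      hidx]
  -- the line through `b` centred at `b`
  obtain ⟨t, hta, htb⟩ := hC.two a b b a (Ne.symm hb) hb
  have hsl : t • hC.line a b = hC.line b a := by
    rw [hC.smul_line t a b (Ne.symm hb), hta, htb]
  set L : Set Ω := hC.line b a \ {a, b} with hL
  have hTL : ∀ g : G, g • a = a → g • b = b → ∀ c ∈ L, g • c ∈ L := by
    intro g hga hgb c hc
    refine ⟨?_, ?_⟩
    · have h := hC.smul_line g b a hb
      rw [hga, hgb] at h
      rw [← h]
      exact Set.smul_mem_smul_set hc.1
    · intro h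
      rcases h with h | h
      · exact hc.2 (Or.inl (MulAction.injective g (h.trans hga.symm)))
      · exact hc.2 (Or.inr (MulAction.injective g ((Set.mem_singleton_iff.1 h).trans hgb.symm)))
  have hLtrans : ∀ c ∈ L, ∀ c' ∈ L, ∃ g : G, g • a = a ∧ g • b = b ∧ g • c = c' := by
    intro c hc c' hc'
    have key : ∀ e ∈ L, t⁻¹ • e ∈ hC.block a b ∧ t⁻¹ • e ≠ b := by
      intro e he
      have h1 := he.1
      rw [← hsl, Set.mem_smul_set_iff_inv_smul_mem] at h1
      refine ⟨⟨h1, fun h => ?_⟩, fun h => ?_⟩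
      · rw [Set.mem_singleton_iff, inv_smul_eq_iff, hta] at h
        exact he.2 (Or.inr h)
      · rw [inv_smul_eq_iff, htb] at h
        exact he.2 (Or.inl h)
    obtain ⟨k, hk, hkb, hkc⟩ :=
      hR.kernel_two hQ hb (key c hc).1 (key c' hc').1 (key c hc).2 (key c' hc').2
    refine ⟨t * k * t⁻¹, ?_, ?_, ?_⟩
    · rw [mul_smul, mul_smul, show t⁻¹ • a = b from inv_smul_eq_iff.2 htb.symm, hkb, htb]
    · rw [mul_smul, mul_smul, show t⁻¹ • b = a from inv_smul_eq_iff.2 hta.symm, hk.1, hta]
    · rw [mul_smul, mul_smul, hkc, smul_inv_smul]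
  have hLcard : L.ncard = p - 1 := by
    have hsub : {a, b} ⊆ hC.line b a := by
      intro e he
      rcases he with h | h
      · rw [h]; exact hC.mem_right b a hb
      · rw [Set.mem_singleton_iff.1 h]; exact hC.mem_left b a hb
    rw [hL, Set.ncard_sdiff hsub (Set.toFinite _), hC.ncard_line b a hb, Set.ncard_pair (Ne.symm hb)]
    omega
  obtain ⟨y, hy⟩ : L.Nonempty := Set.nonempty_of_ncard_ne_zero (by omega)
  have hya : y ≠ a := fun h => hy.2 (Or.inl h)
  have hyb : y ≠ b := fun h => hy.2 (Or.inr h)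
  -- not on the line through `b` centred at `a`
  have hyΔ : y ∉ hC.block a b := by
    intro hyΔ
    refine hC.not_symm hp.two_le (Ne.symm hb) (Set.eq_of_subset_of_ncard_le ?_
      (by rw [hC.ncard_line a b (Ne.symm hb), hC.ncard_line b a hb])).symm
    intro c hc
    by_cases hca : c = a
    · exact hca ▸ hC.mem_left a b (Ne.symm hb)
    by_cases hcb : c = b
    · exact hcb ▸ hC.mem_right a b (Ne.symm hb)
    obtain ⟨g, hga, hgb, rfl⟩ := hLtrans y hy c
      ⟨hc, fun h => h.elim hca (fun h' => hcb (Set.mem_singleton_iff.1 h'))⟩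
    have h := hC.smul_line g a b (Ne.symm hb)
    rw [hga, hgb] at h
    rw [← h]
    exact Set.smul_mem_smul_set hyΔ.1
  -- not a fixed point of the stabiliser of `b` in the kernel
  have hyW : y ∉ W b := by
    intro hyW
    have hLW : ∀ c ∈ L, c ∈ W b := fun c hc => by
      obtain ⟨g, hga, hgb, rfl⟩ := hLtrans y hy c hc
      have := hWeq g hga b y hyW
      rwa [hgb] at this
    have hline : hC.line b a = insert a (W b) := by
      refine Set.eq_of_subset_of_ncard_le ?_ ?_
      · intro c hc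
        by_cases hca : c = a
        · exact Or.inl hca
        by_cases hcb : c = b
        · exact Or.inr ⟨hca, fun k _ h => hcb.symm ▸ h⟩
        exact Or.inr (hLW c ⟨hc, fun h => h.elim hca (fun h' => hcb (Set.mem_singleton_iff.1 h'))⟩)
      · rw [hC.ncard_line b a hb]
        exact (Set.ncard_insert_le _ _).trans (by rw [hWcard b hb])
    obtain ⟨g, hga, hgy⟩ := hC.two a b a y (Ne.symm hb) (Ne.symm hya)
    refine hC.not_shared hp.two_le (Ne.symm hb) hy.1 hya hyb ?_
    have h := hC.smul_line g b a hb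
    rw [hga, hgy] at h
    rw [← h]
    refine Set.eq_of_subset_of_ncard_le ?_
      (by rw [Set.ncard_smul_set])
    rw [hline]
    rintro _ ⟨c, hc, rfl⟩
    rcases hc with rfl | hc
    · exact Or.inl hga
    · have := hWeq g hga b c hc
      rw [hgy, hWsub b hb y hyW] at this
      exact Or.inr this
  -- the last case: the block of `y`
  obtain ⟨w, hw, hwf⟩ := hex b hb y hya
  have hwa : w ≠ a := Cfg.ne_of_mem_block hC hw
  have hwb : w ∈ W b := ⟨hwa, hwf⟩
  have hwy : w ≠ y := fun h => hyW (h ▸ hwb)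
  have hblk : hC.block a w = hC.block a y := hC.block_eq_of_mem hya hw
  have hL' : L = hC.block a y \ {w} := by
    refine (Set.eq_of_subset_of_ncard_le ?_ ?_).symm
    · intro z hz
      obtain ⟨k, hk, hkw, hky⟩ := hR.kernel_two hQ hwa
        (show y ∈ hC.block a w by rw [hblk]; exact hC.mem_block_self hya)
        (show z ∈ hC.block a w by rw [hblk]; exact hz.1) (Ne.symm hwy) hz.2
      rw [← hky]
      exact hTL k hk.1 (hstab b w hb hwa hwf k hk hkw) y hy
    · rw [hLcard, Set.ncard_sdiff_singleton_of_mem hw, hC.ncard_block hya]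
  -- stabilisers of the block of `b` fix all blocks
  have hstep : ∀ g : G, g • a = a → g • hC.block a b = hC.block a b →
      g • hC.block a w = hC.block a w := by
    intro g hg hgΔ
    obtain ⟨q, hq, hqb⟩ := hR.exists_mem_kernel hb ((hC.fix_block_iff hb hg).1 hgΔ)
    set τ := q⁻¹ * g with hτ
    have hτb : τ • b = b := by rw [hτ, mul_smul, ← hqb, inv_smul_smul]
    have hτa : τ • a = a := by rw [hτ, mul_smul, hg, inv_smul_eq_iff, hR.le hq.1]
    have h1 : τ • y ∈ hC.block a y := by
      have := hTL τ hτa hτb y hy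
      rw [hL'] at this
      exact this.1
    have h2 : τ • hC.block a w = hC.block a w := by
      rw [hblk]; exact (hC.fix_block_iff hya hτa).2 h1
    have h3 : g = q * τ := by rw [hτ, mul_inv_cancel_left]
    rw [h3, mul_smul, h2, hq.2.2 w hwa]
  obtain ⟨v, hv, hvw⟩ := hR.trans b w hb hwa
  have hvK : v ∉ kernel hC a := by
    intro h
    have h1 : w ∈ hC.block a b := hvw ▸ kernel_smul_mem hC h hb
    have h2 := hC.block_eq_of_mem hb h1
    rw [hblk] at h2
    exact hyΔ (h2 ▸ hC.mem_block_self hya)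
  have hva : v • a = a := hR.le hv
  have hsub : ∀ g : G, g • a = a → g • b = b → g ∈ kernel hC a := by
    intro g hga hgb
    have hall : ∀ n : ℕ, ((v ^ n)⁻¹ * g * v ^ n) • hC.block a b = hC.block a b := by
      intro n
      induction n with
      | zero => simp only [pow_zero, inv_one, one_mul, mul_one]; rw [hC.smul_block hb hga, hgb]
      | succ n ih =>
        have hn : ((v ^ n)⁻¹ * g * v ^ n) • a = a := by
          have hvn : v ^ n • a = a := pow_mem (show v ∈ stabilizer G a from hva) n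
          rw [mul_smul, mul_smul, hvn, hga, inv_smul_eq_iff, hvn]
        have h := hstep _ hn ih
        rw [← hvw, ← hC.smul_block hb hva, ← mul_smul] at h
        rw [pow_succ, mul_inv_rev, show v⁻¹ * (v ^ n)⁻¹ * g * (v ^ n * v) =
          v⁻¹ * ((v ^ n)⁻¹ * g * v ^ n * v) by group, mul_smul, h, inv_smul_smul]
    refine ⟨hga, fun c hc => ?_⟩
    obtain ⟨x, hx, rfl⟩ := hR.trans b c hb hc
    obtain ⟨i, hi⟩ := (hR.pow_prime_mem hb hv).2 hvK x hx
    have hblkx : hC.block a (x • b) = v ^ i • hC.block a b := by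
      rw [← hC.smul_block hb (hR.le hx)]
      conv_lhs => rw [show x = v ^ i * ((v ^ i)⁻¹ * x) by rw [mul_inv_cancel_left]]
      rw [mul_smul, hi.2 b hb]
    have h := hall i
    rw [mul_smul, mul_smul, inv_smul_eq_iff] at h
    rw [hblkx]
    exact h
  -- the fixed points of two point stabilisers form a linear space
  let F : Ω → Ω → Set Ω := fun d e => {c | ∀ g : G, g • d = d → g • e = e → g • c = c}
  have hFab : F a b = insert a (W b) := by
    ext c
    constructor
    · intro hc
      by_cases hca : c = a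
      · exact Or.inl hca
      · exact Or.inr ⟨hca, fun k hk h => hc k hk.1 h⟩
    · rintro (rfl | hc)
      · exact fun g hga _ => hga
      · exact fun g hga hgb => hc.2 g (hsub g hga hgb) hgb
  have hFmap : ∀ g : G, ∀ d e : Ω, F (g • d) (g • e) = g • F d e := by
    intro g d e
    ext c
    rw [Set.mem_smul_set_iff_inv_smul_mem]
    constructor
    · intro hc h hd he
      have h1 := hc (g * h * g⁻¹) (by rw [mul_smul, mul_smul, inv_smul_smul, hd])
        (by rw [mul_smul, mul_smul, inv_smul_smul, he])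
      rw [mul_smul, mul_smul, ← eq_inv_smul_iff] at h1
      exact h1
    · intro hc h hd he
      have h1 := hc (g⁻¹ * h * g) (by rw [mul_smul, mul_smul, hd, inv_smul_smul])
        (by rw [mul_smul, mul_smul, he, inv_smul_smul])
      rw [mul_smul, mul_smul, smul_inv_smul] at h1
      exact MulAction.injective g⁻¹ h1
  refine no_design hp.two_le hC.card_points F (fun d e hde => ?_)
    (fun d e _ => ⟨fun g h _ => h, fun g _ h => h⟩) (fun d e hde d' hd' e' he' hde' => ?_)
  · obtain ⟨g, rfl, rfl⟩ := hC.two a b d e (Ne.symm hb) hde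
    rw [hFmap, Set.ncard_smul_set, hFab, Set.ncard_insert_of_notMem (fun h => h.1 rfl), hWcard b hb]
  · have hle : stabilizer G d ⊓ stabilizer G e ≤ stabilizer G d' ⊓ stabilizer G e' :=
      fun g hg => ⟨hd' g hg.1 hg.2, he' g hg.1 hg.2⟩
    have hcard : ∀ x z : Ω, x ≠ z → Nat.card ↥(stabilizer G x ⊓ stabilizer G z) =
        Nat.card ↥(stabilizer G a ⊓ stabilizer G b) := by
      intro x z hxz
      obtain ⟨g, rfl, rfl⟩ := hC.two a b x z (Ne.symm hb) hxz
      rw [stabilizer_smul_eq_stabilizer_map_conj, stabilizer_smul_eq_stabilizer_map_conj,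
        ← Subgroup.map_inf _ _ _ (MulEquiv.injective _),
        Subgroup.card_map_of_injective (MulEquiv.injective _)]
    have heq := Subgroup.eq_of_le_of_card_ge hle (by rw [hcard d e hde, hcard d' e' hde'])
    ext c
    constructor
    · intro hc g hgd hge
      have : g ∈ stabilizer G d' ⊓ stabilizer G e' := hle ⟨hgd, hge⟩
      exact hc g this.1 this.2
    · intro hc g hgd hge
      have : g ∈ stabilizer G d ⊓ stabilizer G e := heq.symm ▸ ⟨hgd, hge⟩
      exact hc g this.1 this.2

end CfsgLib.Perm.PrimeSquarePlusOne
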