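import Cfsg.Agent.Lib.Perm.PrimeSquarePlusOne.Alpha
import Cfsg.Agent.Lib.Perm.PrimeSquarePlusOne.Beta
import Cfsg.Agent.Lib.Perm.PrimeSquarePlusOne.GammaEnd

/-!
# Doubly transitive groups of degree `p² + 1` are doubly primitive

* `primitive_or_twenty`: the point stabiliser is primitive, or `p = 2` and `|G| = 20`.
-/

set_option autoImplicit false
set_option linter.all false

namespace CfsgLib.Perm.PrimeSquarePlusOne

open MulAction

theorem primitive_or_twenty {Ω : Type*} [Finite Ω] {p : ℕ} [Fact p.Prime] {G : Type*} [Group G]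
    [Finite G] [MulAction G Ω] [FaithfulSMul G Ω] (h2 : IsMultiplyPretransitive G Ω 2)
    (hΩ : Nat.card Ω = p ^ 2 + 1) (a : Ω) :
    IsPreprimitive ↥(stabilizer G a) ↥(SubMulAction.ofStabilizer G a) ∨
      (p = 2 ∧ Nat.card G = 20) := by
  by_cases hprim : IsPreprimitive ↥(stabilizer G a) ↥(SubMulAction.ofStabilizer G a)
  · exact Or.inl hprim
  have hp : p.Prime := Fact.out
  obtain ⟨hC⟩ := Cfg.exists_of_not_primitive h2 hΩ a hprim
  haveI : Nontrivial Ω := Finite.one_lt_card_iff_nontrivial.1 (by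
    rw [hΩ]
    have := pow_pos hp.pos 2
    omega)
  obtain ⟨b, hb⟩ := exists_ne a
  by_cases hp2 : p = 2
  · exact Or.inr ⟨hp2, hC.card_of_two hp2 (Ne.symm hb)⟩
  exfalso
  obtain ⟨P, hR⟩ := hC.exists_reg (Ne.symm hb)
  by_cases hQ : ∀ k ∈ kernel hC a, ∀ x ∈ P ⊓ kernel hC a, k * x * k⁻¹ ∈ P ⊓ kernel hC a
  · by_cases hN : ∀ g : G, g • a = a → ∀ x ∈ P, g * x * g⁻¹ ∈ P
    · exact hR.false_of_normal hN hp2 hb
    · exact hR.false_of_kernel_normal hb hQ hN
  · exact hR.false_of_not_normal hQ hp2 hb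

end CfsgLib.Perm.PrimeSquarePlusOne
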