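import Cfsg.Agent.Lib.Perm.PrimeSquarePlusOne.Regular

/-!
# An involution in the stabiliser of two points

* `Cfg.exists_involution`: for odd `p` the order of `G_ab` is even.
-/

set_option autoImplicit false
set_option linter.all false

namespace CfsgLib.Perm.PrimeSquarePlusOne

open MulAction
open scoped Pointwise

variable {Ω : Type*} [Finite Ω] {p : ℕ} [Fact p.Prime] {G : Type*} [Group G] [Finite G]
  [MulAction G Ω] [FaithfulSMul G Ω] (hC : Cfg G Ω p)

include hC in
theorem Cfg.exists_involution (hp : p ≠ 2) {a b : Ω} (hab : a ≠ b) :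
    ∃ z : G, orderOf z = 2 ∧ z • a = a ∧ z • b = b := by
  classical
  by_contra hcon
  have hpp : p.Prime := Fact.out
  have hodd : Odd p := hpp.odd_of_ne_two hp
  haveI : Fintype Ω := Fintype.ofFinite Ω
  have hn : Fintype.card Ω = p ^ 2 + 1 := by rw [← Nat.card_eq_fintype_card, hC.card_points]
  -- stabilisers have odd order
  have hT : ¬ 2 ∣ Nat.card ↥(stabilizer G a ⊓ stabilizer G b) := fun h => by
    obtain ⟨z, hz⟩ := exists_prime_orderOf_dvd_card' 2 h
    exact hcon ⟨z, by rw [Subgroup.orderOf_coe]; exact hz, z.2.1, z.2.2⟩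
  have hH : ∀ (c : Ω) (g : G), g • c = c → Odd (orderOf g) := by
    intro c g hg
    haveI : Nontrivial Ω := Finite.one_lt_card_iff_nontrivial.1
      (by rw [hC.card_points]; nlinarith [hpp.two_le])
    obtain ⟨d, hd⟩ := exists_ne c
    obtain ⟨t, ht, -⟩ := hC.two c d a b (Ne.symm hd) hab
    have h1 : t * g * t⁻¹ ∈ stabilizer G a := by
      show (t * g * t⁻¹) • a = a
      rw [mul_smul, mul_smul, show t⁻¹ • a = c from inv_smul_eq_iff.2 ht.symm, hg, ht]
    have h2 : Odd (Nat.card (stabilizer G a)) := by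
      rw [hC.card_stab hab]
      exact (hodd.pow).mul (Nat.not_even_iff_odd.1 fun h => hT h.two_dvd)
    have h3 := Subgroup.orderOf_dvd_natCard _ h1
    exact h2.of_dvd_nat ((show orderOf (t * g * t⁻¹) = orderOf g from
      (MulAut.conj t).orderOf_eq g) ▸ h3)
  -- hence all permutations are even
  let f : G →* ℤˣ := (Equiv.Perm.sign).comp (MulAction.toPermHom G Ω)
  have heven : ∀ g : G, Odd (orderOf g) → f g = 1 := by
    intro g hg
    have h1 : f g ^ orderOf g = 1 := by rw [← map_pow, pow_orderOf_eq_one, map_one]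
    rcases Int.units_eq_one_or (f g) with h | h
    · exact h
    · rw [h, hg.neg_one_pow] at h1; rw [h, h1]
  have hall : ∀ g : G, f g = 1 := by
    intro g
    by_cases hga : g • a = a
    · exact heven g (hH a g hga)
    obtain ⟨d, hda, hdg⟩ : ∃ d, d ≠ a ∧ d ≠ g • a := by
      by_contra h
      push Not at h
      have hsub : (Set.univ : Set Ω) ⊆ {a, g • a} := fun x _ => by
        by_cases hx : x = a
        · exact Or.inl hx
        · exact Or.inr (h x hx)
      have := (Set.ncard_le_ncard hsub (Set.toFinite _)).trans (Set.ncard_insert_le _ _)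
      rw [Set.ncard_univ, hC.card_points, Set.ncard_singleton] at this
      nlinarith [hpp.two_le]
    obtain ⟨h, hhd, hha⟩ := hC.two d a d (g • a) hda hdg
    have h1 : (h⁻¹ * g) • a = a := by rw [mul_smul, inv_smul_eq_iff, hha]
    calc f g = f h * f (h⁻¹ * g) := by rw [← map_mul, mul_inv_cancel_left]
      _ = 1 := by rw [heven _ (hH d h hhd), heven _ (hH a _ h1), one_mul]
  -- but an involution is odd
  have h2G : 2 ∣ Nat.card G := by
    haveI : IsPretransitive G Ω := ⟨fun x y => by
      by_cases hxy : x = y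
      · exact ⟨1, by rw [one_smul, hxy]⟩
      · obtain ⟨g, hg, -⟩ := hC.two x y y x hxy (Ne.symm hxy)
        exact ⟨g, hg⟩⟩
    have : 2 ∣ Nat.card Ω := by
      rw [hC.card_points]
      exact ((hodd.pow).add_one).two_dvd
    exact this.trans ((index_stabilizer_of_transitive G a) ▸ Subgroup.index_dvd_card _)
  obtain ⟨u, hu⟩ := exists_prime_orderOf_dvd_card' 2 h2G
  have hfree : ∀ c : Ω, u • c ≠ c := fun c hc => by
    have := hH c u hc
    rw [hu] at this
    exact absurd this (by decide)
  have hsq : (MulAction.toPermHom G Ω u) ^ 2 = 1 := by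
    rw [← map_pow, ← hu, pow_orderOf_eq_one, map_one]
  have hs := hall u
  simp only [f, MonoidHom.comp_apply] at hs
  rw [Equiv.Perm.sign_of_pow_two_eq_one hsq] at hs
  have hfix : Fintype.card (Function.fixedPoints ⇑(MulAction.toPermHom G Ω u)) = 0 :=
    Fintype.card_eq_zero_iff.2 ⟨fun x => hfree x.1 x.2⟩
  rw [hfix, Nat.sub_zero, hn] at hs
  obtain ⟨k, hk⟩ := hodd
  have : (p ^ 2 + 1) / 2 = 2 * (k * k + k) + 1 := by subst hk; ring_nf; omega
  rw [this, pow_succ, pow_mul] at hs
  simp at hs

end CfsgLib.Perm.PrimeSquarePlusOne
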