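import Cfsg.Agent.Lib.Perm.PrimeSquarePlusOne.BigSylow

/-!
# A regular Sylow subgroup of the point stabiliser

* `Reg`: a regular abelian subgroup of order `p²` of the point stabiliser.
* `Cfg.exists_reg`, `Cfg.not_dvd_two_point`: it exists and `p` does not divide `|G_ab|`.
* `kernel`: the elements fixing every block; `Reg.card_inf_kernel`, `Reg.kernel_faithful`.
-/

set_option autoImplicit false
set_option linter.all false

namespace CfsgLib.Perm.PrimeSquarePlusOne

open MulAction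
open scoped Pointwise

variable {Ω : Type*} [Finite Ω] {p : ℕ} [Fact p.Prime] {G : Type*} [Group G] [Finite G]
  [MulAction G Ω] [FaithfulSMul G Ω] (hC : Cfg G Ω p)

/-- A regular abelian subgroup of order `p²` in the stabiliser of `a`. -/
structure Reg (hC : Cfg G Ω p) (a : Ω) (P : Subgroup G) : Prop where
  le : P ≤ stabilizer G a
  card : Nat.card P = p ^ 2
  trans : ∀ b c, b ≠ a → c ≠ a → ∃ x ∈ P, x • b = c
  eq_one : ∀ x ∈ P, ∀ c, c ≠ a → x • c = c → x = 1
  comm : ∀ x ∈ P, ∀ y ∈ P, x * y = y * x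

include hC in
theorem Cfg.not_dvd_two_point {a b : Ω} (hab : a ≠ b) :
    ¬ p ∣ Nat.card ↥(stabilizer G a ⊓ stabilizer G b) := fun h => hC.not_big hab (by
  rw [hC.card_stab hab, pow_succ]
  exact Nat.mul_dvd_mul_left _ h)

theorem Cfg.exists_reg {a b : Ω} (hab : a ≠ b) : ∃ P : Subgroup G, Reg hC a P := by
  have hp : p.Prime := Fact.out
  obtain ⟨P⟩ : Nonempty (Sylow p (stabilizer G a)) := inferInstance
  let P' : Subgroup G := (P : Subgroup (stabilizer G a)).map (stabilizer G a).subtype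
  have hP'H : P' ≤ stabilizer G a := Subgroup.map_subtype_le _
  have hcard : Nat.card P' = p ^ 2 := by
    show Nat.card ↥((P : Subgroup (stabilizer G a)).map (stabilizer G a).subtype) = _
    rw [Subgroup.card_map_of_injective (stabilizer G a).subtype_injective, P.card_eq_multiplicity]
    congr 1
    have h2 : 2 ≤ (Nat.card (stabilizer G a)).factorization p :=
      (hp.pow_dvd_iff_le_factorization Nat.card_pos.ne').1 (by
        rw [hC.card_stab hab]; exact dvd_mul_right _ _)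
    have h3 : ¬ 3 ≤ (Nat.card (stabilizer G a)).factorization p := fun h =>
      hC.not_big hab ((hp.pow_dvd_iff_le_factorization Nat.card_pos.ne').2 h)
    omega
  refine ⟨P', hP'H, hcard, fun b c hb hc => hC.sylow_transitive P hb hc, ?_, ?_⟩
  · intro x hx c hc hxc
    have horb : orbit P' c = {a}ᶜ := by
      ext d
      constructor
      · rintro ⟨y, rfl⟩; exact Cfg.smul_ne hc (hP'H y.2)
      · intro hd
        obtain ⟨y, hy, hyd⟩ := hC.sylow_transitive P hc hd
        exact ⟨⟨y, hy⟩, hyd⟩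
    have h := card_inf_stabilizer P' c
    rw [horb, hC.ncard_compl, hcard] at h
    have h1 : Nat.card ↥(P' ⊓ stabilizer G c) = 1 :=
      Nat.eq_of_mul_eq_mul_left (pow_pos hp.pos 2) (by rw [h, mul_one])
    have : x ∈ P' ⊓ stabilizer G c := ⟨hx, hxc⟩
    rw [Subgroup.card_eq_one.1 h1, Subgroup.mem_bot] at this
    exact this
  · intro x hx y hy
    exact congrArg Subtype.val (IsPGroup.commutative_of_card_eq_prime_sq hcard ⟨x, hx⟩ ⟨y, hy⟩)

/-- The elements of the stabiliser of `a` fixing all its blocks. -/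
def kernel (hC : Cfg G Ω p) (a : Ω) : Subgroup G where
  carrier := {g | g • a = a ∧ ∀ c, c ≠ a → g • hC.block a c = hC.block a c}
  one_mem' := ⟨one_smul _ _, fun _ _ => one_smul _ _⟩
  mul_mem' := fun {g h} hg hh => ⟨by rw [mul_smul, hh.1, hg.1],
    fun c hc => by rw [mul_smul, hh.2 c hc, hg.2 c hc]⟩
  inv_mem' := fun {g} hg => ⟨inv_smul_eq_iff.2 hg.1.symm,
    fun c hc => inv_smul_eq_iff.2 (hg.2 c hc).symm⟩

theorem kernel_le (a : Ω) : kernel hC a ≤ stabilizer G a := fun g hg => hg.1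

theorem kernel_smul_mem {a c : Ω} {k : G} (hk : k ∈ kernel hC a) (hc : c ≠ a) :
    k • c ∈ hC.block a c :=
  (hC.fix_block_iff hc hk.1).1 (hk.2 c hc)

theorem conj_mem_kernel {a : Ω} {g k : G} (hg : g • a = a) (hk : k ∈ kernel hC a) :
    g * k * g⁻¹ ∈ kernel hC a := by
  have hg' : g⁻¹ • a = a := inv_smul_eq_iff.2 hg.symm
  refine ⟨by rw [mul_smul, mul_smul, hg', hk.1, hg], fun c hc => ?_⟩
  rw [mul_smul, mul_smul, hC.smul_block hc hg', hk.2 _ (Cfg.smul_ne hc hg'),
    hC.smul_block (Cfg.smul_ne hc hg') hg, smul_inv_smul]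

variable {hC} {a : Ω} {P : Subgroup G}

theorem Reg.stab_block_le_kernel (hR : Reg hC a P) {b : Ω} (hb : b ≠ a) {x : G} (hx : x ∈ P)
    (h : x • hC.block a b = hC.block a b) : x ∈ kernel hC a := by
  refine ⟨hR.le hx, fun c hc => ?_⟩
  obtain ⟨y, hy, rfl⟩ := hR.trans b c hb hc
  rw [← hC.smul_block hb (hR.le hy), ← mul_smul, hR.comm x hx y hy, mul_smul, h]

/-- `P` meets the kernel in a subgroup transitive on each block. -/
theorem Reg.exists_mem_kernel (hR : Reg hC a P) {c d : Ω} (hc : c ≠ a)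
    (hd : d ∈ hC.block a c) : ∃ x ∈ P ⊓ kernel hC a, x • c = d := by
  obtain ⟨x, hx, rfl⟩ := hR.trans c d hc (Cfg.ne_of_mem_block hC hd)
  exact ⟨x, ⟨hx, hR.stab_block_le_kernel hc hx ((hC.fix_block_iff hc (hR.le hx)).2 hd)⟩, rfl⟩

theorem Reg.orbit_inf_kernel (hR : Reg hC a P) {c : Ω} (hc : c ≠ a) :
    orbit ↥(P ⊓ kernel hC a) c = hC.block a c := by
  ext d
  constructor
  · rintro ⟨x, rfl⟩; exact kernel_smul_mem hC x.2.2 hc
  · intro hd
    obtain ⟨x, hx, rfl⟩ := hR.exists_mem_kernel hc hd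
    exact ⟨⟨x, hx⟩, rfl⟩

theorem Reg.card_inf_kernel (hR : Reg hC a P) {b : Ω} (hb : b ≠ a) :
    Nat.card ↥(P ⊓ kernel hC a) = p := by
  have h := card_inf_stabilizer (P ⊓ kernel hC a) b
  have e : (P ⊓ kernel hC a) ⊓ stabilizer G b = ⊥ :=
    (Subgroup.eq_bot_iff_forall _).2 fun x hx => hR.eq_one x hx.1.1 b hb hx.2
  rw [hR.orbit_inf_kernel hb, e, Subgroup.card_bot, mul_one, hC.ncard_block hb] at h
  exact h.symm

theorem Reg.kernel_faithful (hR : Reg hC a P) {b : Ω} (hb : b ≠ a) {k : G}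
    (hk : k ∈ kernel hC a) (hfix : ∀ c ∈ hC.block a b, k • c = c) : k = 1 := by
  classical
  have hp : p.Prime := Fact.out
  let W : Subgroup G :=
    { carrier := {g | g ∈ kernel hC a ∧ ∀ c ∈ hC.block a b, g • c = c}
      one_mem' := ⟨one_mem _, fun _ _ => one_smul _ _⟩
      mul_mem' := fun {g h} hg hh => ⟨mul_mem hg.1 hh.1,
        fun c hc => by rw [mul_smul, hh.2 c hc, hg.2 c hc]⟩
      inv_mem' := fun {g} hg => ⟨inv_mem hg.1,
        fun c hc => inv_smul_eq_iff.2 (hg.2 c hc).symm⟩ }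
  have hWp : ¬ p ∣ Nat.card W := fun h => hC.not_dvd_two_point (Ne.symm hb)
    (h.trans (Subgroup.card_dvd_of_le fun g hg => ⟨hg.1.1, hg.2 b (hC.mem_block_self hb)⟩))
  have hnorm : P ⊓ kernel hC a ≤ Subgroup.normalizer (W : Set G) := by
    have key : ∀ q ∈ P ⊓ kernel hC a, ∀ w ∈ W, q * w * q⁻¹ ∈ W := by
      intro q hq w hw
      refine ⟨mul_mem (mul_mem hq.2 hw.1) (inv_mem hq.2), fun c hc => ?_⟩
      have hqc : q⁻¹ • c ∈ hC.block a b := by
        have h := (inv_mem hq.2 : q⁻¹ ∈ kernel hC a).2 b hb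
        rw [← h]
        exact Set.smul_mem_smul_set hc
      rw [mul_smul, mul_smul, hw.2 _ hqc, smul_inv_smul]
    intro q hq
    refine Subgroup.mem_normalizer_iff.2 fun w => ⟨key q hq w, fun h => ?_⟩
    have := key q⁻¹ (inv_mem hq) _ h
    simpa [mul_assoc] using this
  refine eq_of_smul_eq_smul fun c : Ω => ?_
  rw [one_smul]
  by_cases hca : c = a
  · exact hca ▸ hk.1
  set U : Subgroup G := (P ⊓ kernel hC a) ⊔ W with hUdef
  have hUK : U ≤ kernel hC a := sup_le inf_le_right fun g hg => hg.1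
  have horb : orbit U c = hC.block a c := by
    refine Set.Subset.antisymm ?_ ?_
    · rintro _ ⟨x, rfl⟩; exact kernel_smul_mem hC (hUK x.2) hca
    · rw [← hR.orbit_inf_kernel hca]
      rintro _ ⟨x, rfl⟩
      exact ⟨⟨x, Subgroup.mem_sup_left x.2⟩, rfl⟩
  haveI hWn : (W.subgroupOf U).Normal :=
    Subgroup.normal_subgroupOf_sup_of_le_normalizer hnorm
  haveI : (W.subgroupOf (P ⊓ kernel hC a)).Normal :=
    Subgroup.normal_subgroupOf_of_le_normalizer hnorm
  have hidx : (W.subgroupOf U).index = p := by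
    rw [Subgroup.index_eq_card, ← Nat.card_congr
      (QuotientGroup.quotientInfEquivProdNormalizerQuotient (P ⊓ kernel hC a) W hnorm).toEquiv,
      ← Subgroup.index_eq_card]
    have h1 := (W.subgroupOf (P ⊓ kernel hC a)).index_dvd_card
    rw [hR.card_inf_kernel hb] at h1
    rcases (Nat.dvd_prime hp).1 h1 with h2 | h2
    · exfalso
      have : P ⊓ kernel hC a ≤ W := Subgroup.relIndex_eq_one.1 h2
      exact hWp (hR.card_inf_kernel hb ▸ Subgroup.card_dvd_of_le this)
    · exact h2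
  have hcard : Nat.card U = p * Nat.card W := by
    have := (W.subgroupOf U).card_mul_index
    rw [hidx, Nat.card_congr (Subgroup.subgroupOfEquivOfLe (le_sup_right : W ≤ U)).toEquiv] at this
    rw [← this, mul_comm]
  have hUc : Nat.card ↥(U ⊓ stabilizer G c) = Nat.card W := by
    have h := card_inf_stabilizer U c
    rw [horb, hC.ncard_block hca, hcard] at h
    exact Nat.eq_of_mul_eq_mul_left hp.pos h
  have hle : U ⊓ stabilizer G c ≤ W := by
    intro x hx
    have h1 : (QuotientGroup.mk (⟨x, hx.1⟩ : U) : U ⧸ W.subgroupOf U) ^ Nat.card W = 1 := by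
      have : x ^ Nat.card W = 1 := by
        rw [← hUc]
        exact orderOf_dvd_iff_pow_eq_one.1 (Subgroup.orderOf_dvd_natCard _ hx)
      rw [← QuotientGroup.mk_pow, show (⟨x, hx.1⟩ : U) ^ Nat.card W = 1 from Subtype.ext this]
      rfl
    have h2 := pow_card_eq_one' (x := (QuotientGroup.mk (⟨x, hx.1⟩ : U) : U ⧸ W.subgroupOf U))
    rw [← Subgroup.index_eq_card, hidx] at h2
    have h3 : (QuotientGroup.mk (⟨x, hx.1⟩ : U) : U ⧸ W.subgroupOf U) = 1 := by
      have := pow_gcd_eq_one.2 ⟨h1, h2⟩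
      rwa [Nat.coprime_iff_gcd_eq_one.1 ((hp.coprime_iff_not_dvd.2 hWp).symm), pow_one] at this
    exact (QuotientGroup.eq_one_iff (N := W.subgroupOf U) (⟨x, hx.1⟩ : U)).1 h3
  have hkc : k ∈ U ⊓ stabilizer G c :=
    (Subgroup.eq_of_le_of_card_ge hle hUc.ge).symm ▸ (⟨hk, hfix⟩ : k ∈ W)
  exact hkc.2

end CfsgLib.Perm.PrimeSquarePlusOne
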