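import Cfsg.Agent.Lib.Perm.PrimeSquarePlusOne.Basic

/-!
# The point stabiliser and its Sylow subgroup

* `Cfg.block`, `Cfg.smul_block`, `Cfg.block_eq_of_mem`: the blocks of a point stabiliser.
* `Cfg.card_stab`: `|G_a| = p² |G_ab|`.
* `Cfg.sylow_transitive`: a Sylow `p`-subgroup of `G_a` is transitive on the other points.
-/

set_option autoImplicit false
set_option linter.all false

namespace CfsgLib.Perm.PrimeSquarePlusOne

open MulAction
open scoped Pointwise

variable {Ω : Type*} [Finite Ω] {p : ℕ} {G : Type*} [Group G] [MulAction G Ω]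

/-- The block of `c` for the stabiliser of `a`. -/
def Cfg.block (hC : Cfg G Ω p) (a c : Ω) : Set Ω := hC.line a c \ {a}

variable (hC : Cfg G Ω p)

theorem Cfg.mem_block_self {a c : Ω} (h : c ≠ a) : c ∈ hC.block a c :=
  ⟨hC.mem_right a c (Ne.symm h), h⟩

theorem Cfg.ne_of_mem_block {a c d : Ω} (hd : d ∈ hC.block a c) : d ≠ a := hd.2

theorem Cfg.block_eq_of_mem {a c d : Ω} (h : c ≠ a) (hd : d ∈ hC.block a c) :
    hC.block a d = hC.block a c := by
  rw [Cfg.block, Cfg.block, hC.base a c d (Ne.symm h) hd.1 hd.2]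

theorem Cfg.insert_block {a c : Ω} (h : c ≠ a) : insert a (hC.block a c) = hC.line a c :=
  Set.insert_sdiff_self_of_mem (hC.mem_left a c (Ne.symm h))

theorem Cfg.ncard_block {a c : Ω} (h : c ≠ a) : (hC.block a c).ncard = p := by
  have := Set.ncard_sdiff_singleton_add_one (hC.mem_left a c (Ne.symm h)) (Set.toFinite _)
  rw [hC.ncard_line a c (Ne.symm h)] at this
  show (hC.line a c \ {a}).ncard = p
  omega

theorem Cfg.smul_block {a c : Ω} (h : c ≠ a) {g : G} (hg : g • a = a) :
    g • hC.block a c = hC.block a (g • c) := by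
  rw [Cfg.block, Cfg.block, Set.smul_set_sdiff, hC.smul_line g a c (Ne.symm h), hg,
    Set.smul_set_singleton, hg]

theorem Cfg.smul_ne {a c : Ω} (h : c ≠ a) {g : G} (hg : g • a = a) : g • c ≠ a :=
  fun e => h (MulAction.injective g (e.trans hg.symm))

theorem Cfg.fix_block_iff {a c : Ω} (h : c ≠ a) {g : G} (hg : g • a = a) :
    g • hC.block a c = hC.block a c ↔ g • c ∈ hC.block a c := by
  rw [hC.smul_block h hg]
  exact ⟨fun e => e ▸ hC.mem_block_self (Cfg.smul_ne h hg), fun e => hC.block_eq_of_mem h e⟩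

include hC in
theorem Cfg.ncard_compl (a : Ω) : ({a}ᶜ : Set Ω).ncard = p ^ 2 := by
  rw [Set.ncard_compl, hC.card_points, Set.ncard_singleton]
  rfl

include hC in
theorem Cfg.orbit_stab {a b : Ω} (hab : a ≠ b) : orbit (stabilizer G a) b = {a}ᶜ := by
  ext c
  constructor
  · rintro ⟨g, rfl⟩
    exact Cfg.smul_ne (Ne.symm hab) g.2
  · intro hc
    obtain ⟨g, hga, hgb⟩ := hC.two a b a c hab (Ne.symm hc)
    exact ⟨⟨g, hga⟩, hgb⟩

theorem card_inf_stabilizer (P : Subgroup G) (b : Ω) :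
    (orbit P b).ncard * Nat.card ↥(P ⊓ stabilizer G b) = Nat.card P := by
  have h1 : Nat.card ↥(P ⊓ stabilizer G b) = Nat.card (stabilizer P b) := by
    rw [← Nat.card_congr (Subgroup.subgroupOfEquivOfLe (inf_le_left : P ⊓ stabilizer G b ≤ P)).toEquiv]
    congr 1
    congr 1
    ext x
    exact ⟨fun h => h.2, fun h => ⟨x.2, h⟩⟩
  rw [h1, ← index_stabilizer P b, mul_comm, Subgroup.card_mul_index]

include hC in
theorem Cfg.card_stab {a b : Ω} (hab : a ≠ b) :
    Nat.card (stabilizer G a) = p ^ 2 * Nat.card ↥(stabilizer G a ⊓ stabilizer G b) := by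
  rw [← card_inf_stabilizer (stabilizer G a) b, hC.orbit_stab hab, hC.ncard_compl]

include hC in
theorem Cfg.sylow_transitive [Finite G] [Fact p.Prime] {a : Ω} (P : Sylow p (stabilizer G a))
    {b c : Ω} (hb : b ≠ a) (hc : c ≠ a) :
    ∃ x ∈ (P : Subgroup (stabilizer G a)).map (stabilizer G a).subtype, x • b = c := by
  have hp : p.Prime := Fact.out
  let H := stabilizer G a
  let P' : Subgroup G := (P : Subgroup (stabilizer G a)).map (stabilizer G a).subtype
  have hP' : Nat.card P' = p ^ (Nat.card H).factorization p := by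
    rw [Subgroup.card_map_of_injective H.subtype_injective, P.card_eq_multiplicity]
  have hP'H : P' ≤ H := Subgroup.map_subtype_le _
  have horb := card_inf_stabilizer P' b
  have hsub : orbit P' b ⊆ {a}ᶜ := by
    rintro _ ⟨x, rfl⟩
    exact Cfg.smul_ne hb (hP'H x.2)
  suffices heq : orbit P' b = {a}ᶜ by
    have : c ∈ orbit P' b := heq ▸ hc
    obtain ⟨x, hx⟩ := this
    exact ⟨x, x.2, hx⟩
  refine Set.eq_of_subset_of_ncard_le hsub ?_
  rw [hC.ncard_compl]
  have hT : Nat.card ↥(P' ⊓ stabilizer G b) ∣ Nat.card ↥(H ⊓ stabilizer G b) :=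
    Subgroup.card_dvd_of_le (inf_le_inf_right _ hP'H)
  obtain ⟨j, -, hj⟩ := (Nat.dvd_prime_pow hp).1
    (show Nat.card ↥(P' ⊓ stabilizer G b) ∣ p ^ (Nat.card H).factorization p from
      hP' ▸ Subgroup.card_dvd_of_le inf_le_left)
  rw [hj] at hT horb
  rw [hP'] at horb
  have h2 : p ^ (2 + j) ∣ p ^ (Nat.card H).factorization p := by
    refine Nat.pow_dvd_pow p ?_
    refine (hp.pow_dvd_iff_le_factorization Nat.card_pos.ne').1 ?_
    rw [hC.card_stab (Ne.symm hb), pow_add]
    exact Nat.mul_dvd_mul_left _ hT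
  rw [← horb, pow_add] at h2
  exact Nat.le_of_dvd (Set.ncard_pos (Set.toFinite _) |>.2 ⟨b, mem_orbit_self b⟩)
    (Nat.dvd_of_mul_dvd_mul_right (pow_pos hp.pos j) h2)

end CfsgLib.Perm.PrimeSquarePlusOne
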